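import Groth.Agent.Lib.LCFin.Seq
import Groth.Agent.Lib.LocalCoh.Torsion
import Groth.Agent.Lib.InjHull.Basic
import Mathlib.LinearAlgebra.Quotient.Pi
import Mathlib.RingTheory.Noetherian.Basic

/-!
Injective resolutions of the ring placed in degree `L`, and finiteness modulo a submodule.
-/

set_option autoImplicit false
universe u

namespace Groth.Agent.Lib.LCFin.TotalCx

variable {R : Type u} [CommRing R]

/-- An injective resolution of `R` whose first term sits in degree `L`. -/
structure InjData (R : Type u) [CommRing R] (L : ℕ) : Type (u + 1) where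
  /-- The terms. -/
  E : ℕ → ModuleCat.{u} R
  /-- The differential. -/
  d : ∀ b, E b →ₗ[R] E (b + 1)
  /-- The augmentation. -/
  ε : R →ₗ[R] E L
  inj : ∀ b, Module.Injective R (E b)
  zero : ∀ b, b < L → Subsingleton (E b)
  ε_injective : Function.Injective ε
  exactε : Function.Exact ε (d L)
  exact : ∀ b, L ≤ b → Function.Exact (d b) (d (b + 1))

theorem InjData.d_d {L : ℕ} (D : InjData R L) (b : ℕ) : D.d (b + 1) ∘ₗ D.d b = 0 := by
  rcases le_or_gt L b with h | h
  · exact LinearMap.ext fun x => (D.exact b h).apply_apply_eq_zero x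
  · haveI := D.zero b h
    exact LinearMap.ext fun x => by rw [Subsingleton.elim x 0, map_zero, map_zero]

section Exists

/-- A chosen injective module containing `M`. -/
noncomputable def cosyz : ℕ → ModuleCat.{u} R
  | 0 => ModuleCat.of R R
  | b + 1 =>
    let e := InjHull.Basic.exists_injective_embedding (R := R) (cosyz b)
    ModuleCat.of R (e.choose ⧸ LinearMap.range e.choose_spec.choose)

theorem nonempty_injData_zero : Nonempty (InjData R 0) := by
  let e := fun b => InjHull.Basic.exists_injective_embedding (R := R) (cosyz (R := R) b)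
  refine ⟨{
    E := fun b => (e b).choose
    d := fun b => (e (b + 1)).choose_spec.choose ∘ₗ (LinearMap.range (e b).choose_spec.choose).mkQ
    ε := (e 0).choose_spec.choose
    inj := fun b => (e b).choose_spec.choose_spec.1
    zero := fun b hb => absurd hb (Nat.not_lt_zero b)
    ε_injective := (e 0).choose_spec.choose_spec.2
    exactε := fun x => ?_
    exact := fun b _ x => ?_ }⟩
  · exact ((map_eq_zero_iff _ (e 1).choose_spec.choose_spec.2).trans (Submodule.Quotient.mk_eq_zero _))
  · refine (map_eq_zero_iff _ (e (b + 1 + 1)).choose_spec.choose_spec.2).trans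
      ((Submodule.Quotient.mk_eq_zero _).trans ⟨?_, ?_⟩)
    · rintro ⟨y, rfl⟩
      obtain ⟨w, rfl⟩ := Submodule.mkQ_surjective (LinearMap.range (e b).choose_spec.choose) y
      exact ⟨w, rfl⟩
    · rintro ⟨w, rfl⟩
      exact ⟨_, rfl⟩

/-- The terms of a shifted resolution. -/
def InjData.padE {L : ℕ} (D : InjData R L) : ℕ → ModuleCat.{u} R
  | 0 => ModuleCat.of R PUnit
  | b + 1 => D.E b

/-- The differential of a shifted resolution. -/
def InjData.padd {L : ℕ} (D : InjData R L) : ∀ b, D.padE b →ₗ[R] D.padE (b + 1)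
  | 0 => 0
  | b + 1 => D.d b

theorem nonempty_injData : ∀ L : ℕ, Nonempty (InjData R L)
  | 0 => nonempty_injData_zero
  | L + 1 => by
    obtain ⟨D⟩ := nonempty_injData L
    refine ⟨{
      E := D.padE
      d := D.padd
      ε := D.ε
      inj := ?_
      zero := ?_
      ε_injective := D.ε_injective
      exactε := D.exactε
      exact := ?_ }⟩
    · intro b
      cases b with
      | zero => exact ⟨fun _ _ _ _ _ _ _ _ _ => ⟨0, fun _ => Subsingleton.elim (α := PUnit) _ _⟩⟩
      | succ b => exact D.inj b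
    · intro b hb
      cases b with
      | zero => exact inferInstanceAs (Subsingleton PUnit)
      | succ b => exact D.zero b (Nat.lt_of_succ_lt_succ hb)
    · intro b hb
      cases b with
      | zero => exact absurd hb (by omega)
      | succ b => exact D.exact b (Nat.le_of_succ_le_succ hb)

end Exists

section Cover

variable {V W : Type u} [AddCommGroup V] [Module R V] [AddCommGroup W] [Module R W]

/-- `Z` is finitely generated modulo `B`. -/
def FgMod (Z B : Submodule R V) : Prop := ∃ Q : Submodule R V, Q.FG ∧ Z ≤ Q ⊔ B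

theorem fgMod_of_fg {Z : Submodule R V} (hZ : Z.FG) (B : Submodule R V) : FgMod Z B :=
  ⟨Z, hZ, le_sup_left⟩

theorem fgMod_of_le {Z B : Submodule R V} (h : Z ≤ B) : FgMod Z B :=
  ⟨⊥, Submodule.fg_bot, h.trans le_sup_right⟩

theorem fgMod_trans [IsNoetherianRing R] {Z B B' : Submodule R V} (h : FgMod Z B') (h' : FgMod B' B) :
    FgMod Z B := by
  obtain ⟨Q, hQ, hle⟩ := h
  obtain ⟨Q', hQ', hle'⟩ := h'
  exact ⟨Q ⊔ Q', hQ.sup hQ', hle.trans (sup_le (le_sup_left.trans le_sup_left)
    (hle'.trans (sup_le (le_sup_right.trans le_sup_left) le_sup_right)))⟩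

/-- If the image of `Z` is finitely generated modulo `P`, so is `Z` modulo the preimage of `P`. -/
theorem fgMod_of_map [IsNoetherianRing R] (Φ : V →ₗ[R] W) (Z : Submodule R V) (P : Submodule R W)
    (h : FgMod (Z.map Φ) P) : FgMod Z (Z ⊓ P.comap Φ) := by
  classical
  obtain ⟨Q, hQ, hle⟩ := h
  haveI : Module.Finite R Q := Module.Finite.iff_fg.2 hQ
  haveI : IsNoetherian R Q := isNoetherian_of_isNoetherianRing_of_finite R Q
  -- the part of `Q` reached by `Z`
  let Q' : Submodule R Q := (Z.map Φ ⊔ P).comap Q.subtype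
  obtain ⟨s, hs⟩ := IsNoetherian.noetherian Q'
  have hmem : ∀ q ∈ s, ∃ z ∈ Z, (q : W) - Φ z ∈ P := by
    intro q hq
    have hq' : (q : W) ∈ Z.map Φ ⊔ P := (hs ▸ Submodule.subset_span hq : q ∈ Q')
    obtain ⟨_, ⟨z, hz, rfl⟩, y, hy, e⟩ := Submodule.mem_sup.1 hq'
    exact ⟨z, hz, by rw [← e, add_sub_cancel_left]; exact hy⟩
  choose! g hgZ hgP using hmem
  refine ⟨Submodule.span R (s.image g : Set V), Submodule.fg_span (Finset.finite_toSet _), fun z hz => ?_⟩
  obtain ⟨q, hq, y, hy, e⟩ := Submodule.mem_sup.1 (hle ⟨z, hz, rfl⟩)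
  have hqQ : (⟨q, hq⟩ : Q) ∈ Q' := by
    show q ∈ Z.map Φ ⊔ P
    rw [show q = Φ z - y by rw [← e, add_sub_cancel_right]]
    exact Submodule.sub_mem _ (Submodule.mem_sup_left ⟨z, hz, rfl⟩) (Submodule.mem_sup_right hy)
  rw [← hs] at hqQ
  have hkey : ∀ w : Q, w ∈ Submodule.span R (s : Set Q) →
      ∃ v ∈ Submodule.span R (s.image g : Set V), v ∈ Z ∧ (w : W) - Φ v ∈ P := by
    intro w hw
    induction hw using Submodule.span_induction with
    | mem w hw => exact ⟨g w, Submodule.subset_span (Finset.mem_image_of_mem g hw), hgZ w hw, hgP w hw⟩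
    | zero => exact ⟨0, zero_mem _, zero_mem _, by simp⟩
    | add w w' _ _ hw hw' =>
      obtain ⟨v, h1, h2, h3⟩ := hw
      obtain ⟨v', h1', h2', h3'⟩ := hw'
      refine ⟨v + v', add_mem h1 h1', add_mem h2 h2', ?_⟩
      rw [map_add, Submodule.coe_add, add_sub_add_comm]
      exact add_mem h3 h3'
    | smul c w _ hw =>
      obtain ⟨v, h1, h2, h3⟩ := hw
      refine ⟨c • v, Submodule.smul_mem _ c h1, Submodule.smul_mem _ c h2, ?_⟩
      rw [map_smul, Submodule.coe_smul, ← smul_sub]
      exact Submodule.smul_mem _ c h3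
  obtain ⟨v, h1, h2, h3⟩ := hkey _ hqQ
  refine Submodule.mem_sup.2 ⟨v, h1, z - v, ⟨Submodule.sub_mem _ hz h2, ?_⟩, add_sub_cancel _ _⟩
  show Φ (z - v) ∈ P
  rw [map_sub, show Φ z - Φ v = y + (q - Φ v) by rw [← e]; abel]
  exact Submodule.add_mem _ hy h3

/-- Pulling back along an injective map. -/
theorem fgMod_of_map_injective [IsNoetherianRing R] (Φ : V →ₗ[R] W) (hΦ : Function.Injective Φ)
    (Z B : Submodule R V) (h : FgMod (Z.map Φ) (B.map Φ)) : FgMod Z B := by
  obtain ⟨Q, hQ, hle⟩ := fgMod_of_map Φ Z (B.map Φ) h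
  refine ⟨Q, hQ, hle.trans (sup_le_sup_left (inf_le_right.trans ?_) _)⟩
  rw [Submodule.comap_map_eq_of_injective hΦ]

/-- The image of a finitely generated-modulo submodule. -/
theorem fgMod_map (Φ : V →ₗ[R] W) {Z B : Submodule R V} (h : FgMod Z B) :
    FgMod (Z.map Φ) (B.map Φ) := by
  obtain ⟨Q, hQ, hle⟩ := h
  exact ⟨Q.map Φ, hQ.map Φ, (Submodule.map_mono hle).trans (Submodule.map_sup _ _ _).le⟩

end Cover

end Groth.Agent.Lib.LCFin.TotalCx
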