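import Groth.Agent.Lib.LCFin.TotalCx.Basic
import Groth.Agent.Lib.LCFin.Seq
import Groth.Agent.Lib.LocalCoh.Basic
import Groth.Agent.Lib.LocalCoh.Torsion
import Mathlib.Algebra.Module.Injective

/-!
Local cohomology of a module of cycles in a complex of injective modules.
-/

set_option autoImplicit false
universe u

open CategoryTheory
open Groth.Agent.Lib.LocalCoh Groth.Agent.Lib.LCFin.Seq

namespace Groth.Agent.Lib.LCFin.TotalCx

variable {R : Type u} [CommRing R]

theorem injective_of_retract {E F : Type u} [AddCommGroup E] [Module R E] [AddCommGroup F] [Module R F]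
    (hF : Module.Injective R F) (i : E →ₗ[R] F) (p : F →ₗ[R] E) (h : p ∘ₗ i = LinearMap.id) :
    Module.Injective R E :=
  InjHull.Basic.injective_of_retract (I := F) i p h hF

/-- A surjection with injective kernel from a module has a section. -/
theorem exists_section {E F : Type u} [AddCommGroup E] [Module R E] [AddCommGroup F] [Module R F]
    (g : E →ₗ[R] F) (hg : Function.Surjective g) (hk : Module.Injective R (LinearMap.ker g)) :
    ∃ s : F →ₗ[R] E, g ∘ₗ s = LinearMap.id := by
  obtain ⟨r, hr⟩ := hk.out (LinearMap.ker g).subtype Subtype.val_injective LinearMap.id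
  let φ : E →ₗ[R] E := LinearMap.id - (LinearMap.ker g).subtype ∘ₗ r
  have hφ : LinearMap.ker g ≤ LinearMap.ker φ := fun x hx => by
    show x - ((r x : LinearMap.ker g) : E) = 0
    have := hr ⟨x, hx⟩
    rw [Submodule.coe_subtype] at this
    rw [this]
    exact sub_self x
  refine ⟨(LinearMap.ker g).liftQ φ hφ ∘ₗ (g.quotKerEquivOfSurjective hg).symm.toLinearMap, LinearMap.ext fun y => ?_⟩
  obtain ⟨x, rfl⟩ := hg y
  rw [LinearMap.comp_apply, LinearMap.comp_apply, LinearEquiv.coe_toLinearMap,
    show (g.quotKerEquivOfSurjective hg).symm (g x) = Submodule.Quotient.mk x from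
      (LinearEquiv.symm_apply_eq _).2 rfl, Submodule.liftQ_apply]
  show g (x - ((r x : LinearMap.ker g) : E)) = g x
  rw [map_sub, LinearMap.mem_ker.1 (r x).2, sub_zero]

/-- An injective quotient. -/
theorem injective_range {E F : Type u} [AddCommGroup E] [Module R E] [AddCommGroup F] [Module R F]
    (g : E →ₗ[R] F) (hE : Module.Injective R E) (hk : Module.Injective R (LinearMap.ker g)) :
    Module.Injective R (LinearMap.range g) := by
  have hk' : Module.Injective R (LinearMap.ker g.rangeRestrict) := by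
    rw [LinearMap.ker_rangeRestrict]; exact hk
  obtain ⟨s, hs⟩ := exists_section g.rangeRestrict g.surjective_rangeRestrict hk'
  exact injective_of_retract hE s g.rangeRestrict hs

variable [IsNoetherianRing R] (I : Ideal R) (X : ℕ → ModuleCat.{u} R) (d : ∀ j, X j →ₗ[R] X (j + 1))

/-- Torsion cycles. -/
def Tc (j : ℕ) : Submodule R (X j) := DRing.torsionSub I (X j) ⊓ LinearMap.ker (d j)

/-- Boundaries of torsion elements. -/
def Bt (j : ℕ) : Submodule R (X (j + 1)) := (DRing.torsionSub I (X j)).map (d j)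

variable (hinj : ∀ j, Module.Injective R (X j))
include hinj

/-- The torsion cycles map onto local cohomology of a module of cycles, with kernel the boundaries. -/
theorem exists_cycles_map : ∀ (i c j : ℕ), j = c + i → (∀ k, c ≤ k → Function.Exact (d k) (d (k + 1))) →
    ∃ Φ : Tc I X d (j + 1) →ₗ[R] LocCoh.H I (i + 1) (LinearMap.ker (d c)),
      Function.Surjective Φ ∧ ∀ z, Φ z = 0 ↔ (z : X (j + 1)) ∈ Bt I X d j := by
  intro i
  induction i with
  | zero => ?_
  | succ i ih => ?_
  all_goals intro c j hj hex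
  all_goals
    haveI : CategoryTheory.Injective (ModuleCat.of R (X c)) :=
      (Module.injective_iff_injective_object R (X c)).1 (hinj c)
    let f := (LinearMap.ker (d c)).subtype
    let g : X c →ₗ[R] LinearMap.ker (d (c + 1)) :=
      (d c).codRestrict (LinearMap.ker (d (c + 1))) fun x => (hex c le_rfl).apply_apply_eq_zero x
    have hf : Function.Injective f := Subtype.val_injective
    have hg : Function.Surjective g := fun y => by
      obtain ⟨x, hx⟩ := (hex c le_rfl y.1).1 y.2
      exact ⟨x, Subtype.ext hx⟩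
    have hfg : Function.Exact f g := LinearMap.exact_iff.2 (by
      exact (LinearMap.ker_codRestrict _ _ _).trans (Submodule.range_subtype _).symm)
  · cases (show c = j from hj.symm)
    let ζ := fun (N : ModuleCat.{u} R) => ((lcZeroIso I).app N).toLinearEquiv
    have hnat : ∀ x, ζ (ModuleCat.of R (LinearMap.ker (d (c + 1)))) (Hmap I 0 g x) =
        ((DRing.gammaI I).map (ModuleCat.ofHom g)).hom (ζ (ModuleCat.of R (X c)) x) := fun x =>
      LinearMap.congr_fun (congrArg ModuleCat.Hom.hom
        ((lcZeroIso I).hom.naturality (ModuleCat.ofHom g))) x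
    let e : Tc I X d (c + 1) →ₗ[R] (DRing.gammaI I).obj (ModuleCat.of R (LinearMap.ker (d (c + 1)))) :=
      { toFun := fun z => ⟨⟨z.1, z.2.2⟩, by
          obtain ⟨n, hn⟩ := z.2.1
          exact ⟨n, fun a ha => Subtype.ext (hn a ha)⟩⟩
        map_add' := fun _ _ => rfl
        map_smul' := fun _ _ => rfl }
    refine ⟨δ I hf hg hfg 0 ∘ₗ (ζ _).symm.toLinearMap ∘ₗ e, ?_, fun z => ?_⟩
    · intro w
      obtain ⟨v, rfl⟩ := (exact_δ_map I hf hg hfg 0 w).1
        ((lc_subsingleton_of_injective I (ModuleCat.of R (X c)) 0).elim _ _)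
      refine ⟨⟨(ζ _ v).1.1, ?_, (ζ _ v).1.2⟩, ?_⟩
      · obtain ⟨n, hn⟩ := (ζ _ v).2
        exact ⟨n, fun a ha => congrArg Subtype.val (hn a ha)⟩
      · exact congrArg (δ I hf hg hfg 0) ((ζ _).symm_apply_apply v)
    · constructor
      · intro hz
        obtain ⟨x, hx⟩ := (exact_map_δ I hf hg hfg 0 _).1 hz
        refine ⟨(ζ _ x).1, (ζ _ x).2, ?_⟩
        have h2 := (hnat x).symm.trans ((congrArg (ζ _) hx).trans ((ζ _).apply_symm_apply (e z)))
        exact congrArg (fun t => ((t.1 : LinearMap.ker (d (c + 1))) : X (c + 1))) h2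
      · rintro ⟨y, hy, hyz⟩
        refine (exact_map_δ I hf hg hfg 0 _).2 ⟨(ζ (ModuleCat.of R (X c))).symm ⟨y, hy⟩, ?_⟩
        apply (ζ _).injective
        refine ((hnat _).trans (congrArg _ ((ζ (ModuleCat.of R (X c))).apply_symm_apply _))).trans
          (Eq.trans ?_ ((ζ _).apply_symm_apply (e z)).symm)
        exact Subtype.ext (Subtype.ext hyz)
  · obtain ⟨Φ, hΦ, hker⟩ := ih (c + 1) j (by omega) fun k hk => hex k (by omega)
    have hb : Function.Bijective (δ I hf hg hfg (i + 1)) := by
      refine ⟨(injective_iff_map_eq_zero _).2 fun z hz => ?_, fun w => ?_⟩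
      · obtain ⟨y, rfl⟩ := (exact_map_δ I hf hg hfg (i + 1) z).1 hz
        rw [(lc_subsingleton_of_injective I (ModuleCat.of R (X c)) i).elim y 0, map_zero]
      · exact (exact_δ_map I hf hg hfg (i + 1) w).1
          ((lc_subsingleton_of_injective I (ModuleCat.of R (X c)) (i + 1)).elim _ _)
    exact ⟨δ I hf hg hfg (i + 1) ∘ₗ Φ, hb.2.comp hΦ,
      fun z => ((map_eq_zero_iff _ hb.1).trans (hker z))⟩

end Groth.Agent.Lib.LCFin.TotalCx
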