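import Groth.Agent.Lib.LCFin.TotalCx.Vanish
import Mathlib.RingTheory.Finiteness.Cardinality

/-!
Torsion valued cocycles are finitely generated modulo coboundaries away from the critical height.
-/

set_option autoImplicit false
universe u

namespace Groth.Agent.Lib.LCFin.TotalCx

variable {R : Type u} [CommRing R]

theorem fgMod_mono {V : Type u} [AddCommGroup V] [Module R V] {Z Z' B B' : Submodule R V} (h : FgMod Z B)
    (hZ : Z' ≤ Z) (hB : B ≤ B') : FgMod Z' B' := by
  obtain ⟨Q, hQ, hle⟩ := h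
  exact ⟨Q, hQ, hZ.trans (hle.trans (sup_le_sup_left hB _))⟩

variable {L : ℕ} (D : InjData R L) (N : Type u) [AddCommGroup N] [Module R N]

/-- The differential of the complex of linear maps into a resolution. -/
def dC (b : ℕ) : (N →ₗ[R] D.E b) →ₗ[R] (N →ₗ[R] D.E (b + 1)) :=
  LinearMap.llcomp R N (D.E b) (D.E (b + 1)) (D.d b)

/-- Cocycles. -/
def Zd (b : ℕ) : Submodule R (N →ₗ[R] D.E b) := LinearMap.ker (dC D N b)

/-- Coboundaries. -/
def Bd : ∀ b, Submodule R (N →ₗ[R] D.E b)
  | 0 => ⊥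
  | b + 1 => LinearMap.range (dC D N b)

/-- The linear maps with torsion values. -/
def torsMaps (I : Ideal R) (M : Type u) [AddCommGroup M] [Module R M] : Submodule R (N →ₗ[R] M) where
  carrier := {f | Tors I f}
  add_mem' hf hg x := Submodule.add_mem _ (hf x) (hg x)
  zero_mem' _ := zero_mem _
  smul_mem' c _ hf x := Submodule.smul_mem _ c (hf x)

/-- Coboundaries of torsion valued maps. -/
def Btor (I : Ideal R) : ∀ b, Submodule R (N →ₗ[R] D.E b)
  | 0 => ⊥
  | b + 1 => (torsMaps N I (D.E b)).map (dC D N b)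

variable [IsNoetherianRing R]

theorem fg_Zd_of_le [Module.Finite R N] (b : ℕ) (hb : b ≤ L) : (Zd D N b).FG := by
  obtain ⟨K, hK, hker⟩ : ∃ K : Submodule R (D.E b), K.FG ∧ LinearMap.ker (D.d b) = K := by
    rcases hb.lt_or_eq with h | rfl
    · haveI := D.zero b h
      exact ⟨⊥, Submodule.fg_bot, Subsingleton.elim _ _⟩
    · exact ⟨LinearMap.range D.ε, (LinearMap.range_eq_map D.ε).symm ▸ (Module.Finite.fg_top (R := R)).map D.ε,
        LinearMap.exact_iff.1 D.exactε⟩
  haveI : Module.Finite R K := Module.Finite.iff_fg.2 hK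
  haveI : IsNoetherian R (N →ₗ[R] K) := isNoetherian_of_isNoetherianRing_of_finite R _
  have : Zd D N b ≤ LinearMap.range (LinearMap.llcomp R N K (D.E b) K.subtype) := fun f hf => by
    exact ⟨f.codRestrict K fun x => hker ▸ (LinearMap.congr_fun (LinearMap.mem_ker.1 hf) x), LinearMap.ext fun x => rfl⟩
  rw [← Submodule.map_comap_eq_of_le this]
  exact (IsNoetherian.noetherian _).map _

/-- Cocycles of a finite module are finitely generated modulo coboundaries. -/
theorem fgMod_cocycles : ∀ (b : ℕ) (N : Type u) [AddCommGroup N] [Module R N] [Module.Finite R N],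
    FgMod (Zd D N b) (Bd D N b) := by
  intro b
  induction b with
  | zero => exact fun N _ _ _ => fgMod_of_fg (fg_Zd_of_le D N 0 (Nat.zero_le L)) _
  | succ b ih =>
    intro N _ _ _
    by_cases hb : b + 1 ≤ L
    · exact fgMod_of_fg (fg_Zd_of_le D N (b + 1) hb) _
    obtain ⟨r, p, hp⟩ := Module.Finite.exists_fin' R N
    let F := Fin r → R
    let K := LinearMap.ker p
    let res : (F →ₗ[R] D.E b) →ₗ[R] (K →ₗ[R] D.E b) := LinearMap.lcomp R _ K.subtype
    let pull : ∀ j, (N →ₗ[R] D.E j) →ₗ[R] (F →ₗ[R] D.E j) := fun j => LinearMap.lcomp R _ p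
    let U : Submodule R (F →ₗ[R] D.E b) := (Zd D K b).comap res
    have h1 : FgMod U (U ⊓ (Bd D K b).comap res) :=
      fgMod_of_map res U _ (fgMod_mono (ih K) (Submodule.map_comap_le _ _) le_rfl)
    refine fgMod_of_map_injective (pull (b + 1))
      (fun f g e => (LinearMap.cancel_right hp).1 e) _ _ (fgMod_mono (fgMod_map (dC D F b) h1) ?_ ?_)
    · rintro _ ⟨f, hf, rfl⟩
      have hex := D.exact b (by omega)
      have hfr : ∀ j, f (p (Pi.single j (1 : R))) ∈ LinearMap.range (D.d b) := fun j =>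
        (hex _).1 (LinearMap.congr_fun (LinearMap.mem_ker.1 hf) _)
      choose w hw using hfr
      let h : F →ₗ[R] D.E b := (Pi.basisFun R (Fin r)).constr R w
      have hh : D.d b ∘ₗ h = f ∘ₗ p := (Pi.basisFun R (Fin r)).ext fun j => by
        rw [LinearMap.comp_apply, Module.Basis.constr_basis, hw, Pi.basisFun_apply]; rfl
      refine ⟨h, LinearMap.ext fun x => ?_, hh⟩
      show D.d b (h x.1) = 0
      rw [show D.d b (h x.1) = f (p x.1) from LinearMap.congr_fun hh x.1,
        show p x.1 = 0 from LinearMap.mem_ker.1 x.2, map_zero]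
    · rintro _ ⟨h, ⟨-, hh⟩, rfl⟩
      -- it suffices to correct `h` to vanish on the kernel
      suffices ∃ h' : F →ₗ[R] D.E b, D.d b ∘ₗ h' = D.d b ∘ₗ h ∧ K ≤ LinearMap.ker h' by
        obtain ⟨h', e, hK⟩ := this
        refine ⟨_, ⟨K.liftQ h' hK ∘ₗ (p.quotKerEquivOfSurjective hp).symm.toLinearMap, rfl⟩, ?_⟩
        refine Eq.trans ?_ e
        refine LinearMap.ext fun x => congrArg (D.d b) ?_
        show K.liftQ h' hK ((p.quotKerEquivOfSurjective hp).symm (p x)) = h' x
        rw [show (p.quotKerEquivOfSurjective hp).symm (p x) = Submodule.Quotient.mk x from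
          (LinearEquiv.symm_apply_eq _).2 rfl, Submodule.liftQ_apply]
      cases b with
      | zero => exact ⟨h, rfl, fun x hx => LinearMap.congr_fun hh ⟨x, hx⟩⟩
      | succ c =>
        obtain ⟨g, hg⟩ := hh
        obtain ⟨g', hg'⟩ := (D.inj c).out K.subtype Subtype.val_injective g
        refine ⟨h - D.d c ∘ₗ g', ?_, fun x hx => ?_⟩
        · rw [LinearMap.comp_sub, ← LinearMap.comp_assoc, D.d_d, LinearMap.zero_comp, sub_zero]
        · show h x - D.d c (g' x) = 0
          rw [show g' x = g ⟨x, hx⟩ from hg' ⟨x, hx⟩, sub_eq_zero]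
          exact (LinearMap.congr_fun hg ⟨x, hx⟩).symm

/-- Torsion valued cocycles are finitely generated modulo coboundaries of torsion valued maps. -/
theorem fgMod_tors [IsRegularRing R] (I : Ideal R) (b : ℕ) [Module.Finite R N]
    (hcond : ∀ y : PrimeSpectrum R, I ≤ y.asIdeal → y ∈ Module.support R (N ⧸ DRing.torsionSub I N) →
      ∀ h : ℕ, y.asIdeal.height = h → b ≠ L + h) :
    FgMod (Zd D N b ⊓ torsMaps N I (D.E b)) (Btor D N I b) := by
  cases b with
  | zero => exact fgMod_mono (fgMod_of_fg (fg_Zd_of_le D N 0 (Nat.zero_le L)) _) inf_le_left le_rfl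
  | succ b =>
    let T := DRing.torsionSub I N
    haveI : IsNoetherian R N := isNoetherian_of_isNoetherianRing_of_finite R N
    let res : (N →ₗ[R] D.E (b + 1)) →ₗ[R] (T →ₗ[R] D.E (b + 1)) := LinearMap.lcomp R _ T.subtype
    have h1 := fgMod_of_map res (Zd D N (b + 1) ⊓ torsMaps N I (D.E (b + 1))) (Bd D T (b + 1))
      (fgMod_mono (fgMod_cocycles D (b + 1) T) (by
        rintro _ ⟨f, ⟨hf, -⟩, rfl⟩
        exact LinearMap.ext fun x => LinearMap.congr_fun (LinearMap.mem_ker.1 hf) x.1) le_rfl)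
    refine fgMod_mono h1 le_rfl ?_
    rintro f ⟨⟨hf, hft⟩, g, hg⟩
    haveI := D.inj b
    obtain ⟨g', hg'⟩ := (LocalCoh.injective_torsionSub I (D.E b)).out T.subtype Subtype.val_injective
      (g.codRestrict _ fun x => by
        obtain ⟨n, hn⟩ := x.2
        exact ⟨n, fun a ha => by rw [← map_smul, show a • x = 0 from Subtype.ext (hn a ha), map_zero]⟩)
    let gN : N →ₗ[R] D.E b := (DRing.torsionSub I (D.E b)).subtype ∘ₗ g'
    let f' := f - D.d b ∘ₗ gN
    have hT : T ≤ LinearMap.ker f' := fun x hx => by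
      show f x - D.d b (g' x : D.E b) = 0
      rw [show (g' x : D.E b) = g ⟨x, hx⟩ from congrArg Subtype.val (hg' ⟨x, hx⟩), sub_eq_zero]
      exact (LinearMap.congr_fun hg ⟨x, hx⟩).symm
    obtain ⟨g₂, hg₂, he⟩ := exists_coboundary D I b (N ⧸ T) hcond (T.liftQ f' hT)
      (fun q => by
        obtain ⟨x, rfl⟩ := Submodule.mkQ_surjective T q
        exact Submodule.sub_mem _ (hft x) (DRing.map_mem_torsionSub I (D.d b) (g' x).2))
      (Submodule.linearMap_qext _ (LinearMap.ext fun x => by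
        show D.d (b + 1) (f x - D.d b (gN x)) = 0
        rw [map_sub, show D.d (b + 1) (f x) = 0 from LinearMap.congr_fun (LinearMap.mem_ker.1 hf) x,
          show D.d (b + 1) (D.d b (gN x)) = 0 from LinearMap.congr_fun (D.d_d b) (gN x), sub_zero]))
    refine ⟨gN + g₂ ∘ₗ T.mkQ, fun x => Submodule.add_mem _ (g' x).2 (hg₂ _), LinearMap.ext fun x => ?_⟩
    show D.d b (gN x + g₂ (T.mkQ x)) = f x
    rw [map_add, ← show T.liftQ f' hT (T.mkQ x) = D.d b (g₂ (T.mkQ x)) from LinearMap.congr_fun he _]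
    exact add_sub_cancel (D.d b (gN x)) (f x)

end Groth.Agent.Lib.LCFin.TotalCx
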