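import Groth.Agent.Lib.LCFin.TotalCx.Total
import Groth.Agent.Lib.LCFin.TotalCx.Torsion
import Groth.Agent.Lib.LCFin.TotalCx.Cycles

/-!
Finiteness of local cohomology from the filtration of the total complex.
-/

set_option autoImplicit false
universe u

open CategoryTheory
open Groth.Agent.Lib.LocalCoh Groth.Agent.Lib.LCFin.Seq

namespace Groth.Agent.Lib.LCFin.TotalCx

variable {R : Type u} [CommRing R] [IsNoetherianRing R] {M : Type u} [AddCommGroup M] [Module R M]

section Cover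

variable {l : ℕ} (D : InjData R (l + 2)) (K : CoCx R M (l + 2))

/-- The local cohomology of the cycles covers that of the module. -/
theorem exists_surjection (I : Ideal R) (i : ℕ) :
    ∃ Θ : LocCoh.H I (i + 1) (LinearMap.ker (δt D K (l + 2))) →ₗ[R] LocCoh.H I (i + 1) M,
      Function.Surjective Θ := by
  let Z := LinearMap.ker (δt D K (l + 2))
  let b' : V D K (l + 1) →ₗ[R] Z := (δt D K (l + 1)).codRestrict Z fun y => δt_δt D K (l + 1) y
  let B : Submodule R Z := LinearMap.range b'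
  have hB : Module.Injective R B := injective_range b' (injective_V D K (l + 1)) (by
    rw [show LinearMap.ker b' = LinearMap.ker (δt D K (l + 1)) from LinearMap.ker_codRestrict _ _ _]
    exact injective_ker D K (Nat.le_add_left 2 l) (l + 1) (by omega))
  let ev : (K.C 0 →ₗ[R] R) →ₗ[R] V D K (l + 2) :=
    sgl D K 0 (l + 2) ∘ₗ LinearMap.llcomp R (K.C 0) R (Esh D 0 (l + 2)) D.ε
  have hev : ∀ φ, ev φ = sgl D K 0 (l + 2) (D.ε ∘ₗ φ) := fun φ => rfl
  have hevZ : ∀ φ, ev φ ∈ Z := fun φ => by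
    show δt D K (l + 2) (ev φ) = 0
    funext b
    rw [hev]
    by_cases hb : b = 0
    · subst hb
      rw [δt_sgl_same]
      exact LinearMap.ext fun x => D.exactε.apply_apply_eq_zero (φ x)
    · exact δt_sgl_ne D K (l + 2) _ hb (Nat.succ_ne_zero b)
  let Φ : (K.C 0 →ₗ[R] R) →ₗ[R] Z ⧸ B := B.mkQ ∘ₗ ev.codRestrict Z hevZ
  have hΦ : Function.Surjective Φ := fun q => by
    obtain ⟨⟨z, hz⟩, rfl⟩ := Submodule.mkQ_surjective B q
    obtain ⟨y, hy⟩ := exists_clean D K (l + 1) (l + 2) 1 (by omega) (by omega) z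
      fun b _ => congrFun (show δt D K (l + 2) z = 0 from hz) b
    obtain ⟨z', hz'⟩ : ∃ z' : V D K (l + 2), z' = z - δt D K (l + 1) y := ⟨_, rfl⟩
    rw [← hz'] at hy
    obtain ⟨φ, hφ⟩ := exists_factor D K 0 (l + 2) D.ε D.exactε (z' 0) (by
      rw [← δt_top D K (l + 2) z' 0 (hy 1 le_rfl), hz', map_sub, δt_δt, sub_zero]
      exact congrFun (show δt D K (l + 2) z = 0 from hz) 0)
    refine ⟨φ, (Submodule.Quotient.eq B).2 ⟨-y, Subtype.ext ?_⟩⟩
    show δt D K (l + 1) (-y) = ev φ - z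
    have he : ev φ = z' := funext fun b => by
      rw [hev]
      by_cases hb : b = 0
      · subst hb; rw [sgl_same, hφ]
      · rw [sgl_ne D K (l + 2) _ hb, hy b (by omega)]
    rw [he, hz', map_neg]
    abel
  have hker : LinearMap.ker K.η = LinearMap.ker Φ := by
    ext φ
    rw [LinearMap.mem_ker, LinearMap.mem_ker, K.η_ker]
    refine Iff.trans ?_ (Submodule.Quotient.mk_eq_zero B).symm
    constructor
    · rintro ⟨ψ, hψ⟩
      let e' : R →ₗ[R] Esh D 1 (l + 1) := D.ε
      refine ⟨sgl D K 1 (l + 1) ((-((-1 : R) ^ (l + 1))) • (e' ∘ₗ ψ)), Subtype.ext ?_⟩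
      show δt D K (l + 1) _ = ev φ
      funext b
      rw [hev]
      by_cases h1 : b = 1
      · subst h1
        rw [δt_sgl_same, sgl_ne D K (l + 2) _ Nat.one_ne_zero]
        refine LinearMap.ext fun x => ?_
        show dsh D 1 (l + 1) ((-((-1 : R) ^ (l + 1))) • e' (ψ x)) = 0
        rw [map_smul, show dsh D 1 (l + 1) (e' (ψ x)) = 0 from D.exactε.apply_apply_eq_zero (ψ x), smul_zero]
      by_cases h0 : b = 0
      · subst h0
        rw [δt_sgl_pred, sgl_same, hψ]
        refine LinearMap.ext fun x => ?_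
        show -(((-1 : R) ^ (l + 1)) • ((-((-1 : R) ^ (l + 1))) • D.ε (ψ (K.d 0 x)))) = D.ε (ψ (K.d 0 x))
        rw [smul_smul, mul_neg, neg_one_pow_sq, neg_smul, one_smul, neg_neg]
      · rw [δt_sgl_ne D K (l + 1) _ h1 (by omega), sgl_ne D K (l + 2) _ h0]
    · rintro ⟨y, hy⟩
      replace hy : δt D K (l + 1) y = ev φ := congrArg Subtype.val hy
      obtain ⟨w, hw⟩ := exists_clean D K l (l + 1) 2 (by omega) (by omega) y fun b hb => by
        rw [hy, hev, sgl_ne D K (l + 2) _ (by omega)]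
      obtain ⟨y', hy'⟩ : ∃ y' : V D K (l + 1), y' = y - δt D K l w := ⟨_, rfl⟩
      rw [← hy'] at hw
      replace hy : δt D K (l + 1) y' = ev φ := by rw [hy', map_sub, δt_δt, sub_zero, hy]
      obtain ⟨ψ, hψ⟩ := exists_factor D K 1 (l + 1) D.ε D.exactε (y' 1) (by
        rw [← δt_top D K (l + 1) y' 1 (hw 2 le_rfl), hy, hev, sgl_ne D K (l + 2) _ Nat.one_ne_zero])
      refine ⟨(-((-1 : R) ^ (l + 1))) • ψ, LinearMap.ext fun x => D.ε_injective ?_⟩
      have h := LinearMap.congr_fun (congrFun hy 0) x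
      rw [hev, sgl_same, δt_apply] at h
      haveI := D.zero (l + 1) (Nat.lt_succ_self _)
      rw [show dsh D 0 (l + 1) (y' 0 x) = 0 from
        (congrArg _ (Subsingleton.elim (α := D.E (l + 1)) (y' 0 x) 0)).trans (map_zero _), zero_sub] at h
      refine h.symm.trans ?_
      show -(((-1 : R) ^ (l + 1)) • pre D K 0 (l + 1) (y' 1) x) = D.ε ((-((-1 : R) ^ (l + 1))) • ψ (K.d 0 x))
      rw [map_smul, neg_smul, show pre D K 0 (l + 1) (y' 1) x = D.ε (ψ (K.d 0 x)) from
        (LinearMap.congr_fun hψ (K.d 0 x)).symm]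
      rfl
  let e : (Z ⧸ B) ≃ₗ[R] M := (Φ.quotKerEquivOfSurjective hΦ).symm ≪≫ₗ
    Submodule.quotEquivOfEq _ _ hker.symm ≪≫ₗ K.η.quotKerEquivOfSurjective K.η_surj
  let q : Z →ₗ[R] M := e.toLinearMap ∘ₗ B.mkQ
  have hfg : Function.Exact B.subtype q := fun x =>
    ⟨fun h => ⟨⟨x, (Submodule.Quotient.mk_eq_zero B).1 (e.map_eq_zero_iff.1 h)⟩, rfl⟩,
      fun ⟨w, hw⟩ => hw ▸ e.map_eq_zero_iff.2 ((Submodule.Quotient.mk_eq_zero B).2 w.2)⟩
  haveI : CategoryTheory.Injective (ModuleCat.of R B) := (Module.injective_iff_injective_object R B).1 hB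
  exact ⟨Hmap I (i + 1) q, fun w => (exact_map_δ I (Submodule.injective_subtype B)
    (e.surjective.comp (Submodule.mkQ_surjective B)) hfg (i + 1) w).1
      ((lc_subsingleton_of_injective I (ModuleCat.of R B) (i + 1)).elim _ _)⟩

/-- Finiteness from finite generation of torsion cycles modulo torsion boundaries. -/
theorem finite_H_of_fgMod (I : Ideal R) (i : ℕ)
    (h : FgMod (Tc I (V D K) (δt D K) (l + 2 + i + 1)) (Bt I (V D K) (δt D K) (l + 2 + i))) :
    Module.Finite R (LocCoh.H I (i + 1) M) := by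
  obtain ⟨Φ, hΦ, hker⟩ := exists_cycles_map I (V D K) (δt D K) (injective_V D K) i (l + 2) (l + 2 + i) rfl
    fun k hk => exact_δt D K k hk
  obtain ⟨Θ, hΘ⟩ := exists_surjection D K I i
  let T := Tc I (V D K) (δt D K) (l + 2 + i + 1)
  have h1 : FgMod (⊤ : Submodule R T) ((Bt I (V D K) (δt D K) (l + 2 + i)).comap T.subtype) := by
    refine fgMod_of_map_injective T.subtype Subtype.val_injective _ _ (fgMod_mono h ?_ ?_)
    · rw [Submodule.map_top, Submodule.range_subtype]
    · rintro _ ⟨y, hy, rfl⟩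
      exact ⟨⟨δt D K (l + 2 + i) y, DRing.map_mem_torsionSub I _ hy, δt_δt D K _ y⟩, ⟨y, hy, rfl⟩, rfl⟩
  obtain ⟨Q, hQ, hle⟩ := h1
  refine Module.finite_def.2 ?_
  rw [← LinearMap.range_eq_top.2 (show Function.Surjective (Θ ∘ₗ Φ) from hΘ.comp hΦ), LinearMap.range_eq_map,
    le_antisymm (Submodule.map_mono hle) (Submodule.map_mono le_top), Submodule.map_sup]
  refine (hQ.map _).sup ?_
  rw [show ((Bt I (V D K) (δt D K) (l + 2 + i)).comap T.subtype).map (Θ ∘ₗ Φ) = ⊥ from by
    rw [Submodule.eq_bot_iff]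
    rintro _ ⟨z, hz, rfl⟩
    show Θ (Φ z) = 0
    rw [(hker z).2 hz, map_zero]]
  exact Submodule.fg_bot

end Cover

section Chase

variable {L : ℕ} (D : InjData R L) (K : CoCx R M L) (I : Ideal R)

/-- Boundaries of the dual complex. -/
def Bc : ∀ a, Submodule R (K.C a)
  | 0 => ⊥
  | a + 1 => LinearMap.range (K.d a)

/-- Cohomology of the dual complex. -/
abbrev Nc (a : ℕ) : Type u := LinearMap.ker (K.d a) ⧸ (Bc K a).comap (LinearMap.ker (K.d a)).subtype

theorem fgMod_tors_shift [IsRegularRing R] : ∀ (a k : ℕ) (N : Type u) [AddCommGroup N] [Module R N]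
    [Module.Finite R N], (∀ y : PrimeSpectrum R, I ≤ y.asIdeal → y ∈ Module.support R (N ⧸ DRing.torsionSub I N) →
      ∀ h : ℕ, y.asIdeal.height = h → a + (k + 1) ≠ L + h) →
    FgMod (LinearMap.ker (LinearMap.llcomp R N (Esh D a (k + 1)) (Esh D a (k + 1 + 1)) (dsh D a (k + 1))) ⊓
        torsMaps N I (Esh D a (k + 1)))
      ((torsMaps N I (Esh D a k)).map (LinearMap.llcomp R N (Esh D a k) (Esh D a (k + 1)) (dsh D a k)))
  | 0, k, N, _, _, _, hc => fgMod_tors D N I (k + 1) fun y h1 h2 h hh => by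
      have := hc y h1 h2 h hh; omega
  | a + 1, k, N, _, _, _, hc => fgMod_tors_shift a (k + 1) N fun y h1 h2 h hh => by
      have := hc y h1 h2 h hh; omega

/-- Torsion cycles with vanishing first components. -/
def Gf (a k : ℕ) : Submodule R (V D K (k + 1)) where
  carrier := {z | z ∈ Tc I (V D K) (δt D K) (k + 1) ∧ ∀ b, b < a → z b = 0}
  add_mem' := fun {z w} hz hw => ⟨Submodule.add_mem _ hz.1 hw.1, fun b hb => by
    show z b + w b = 0
    rw [hz.2 b hb, hw.2 b hb, add_zero]⟩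
  zero_mem' := ⟨zero_mem _, fun _ _ => rfl⟩
  smul_mem' := fun c z ⟨h1, h2⟩ => ⟨Submodule.smul_mem _ c h1, fun b hb => by
    show c • z b = 0
    rw [h2 b hb, smul_zero]⟩

theorem sgl_mem_torsionSub (a m : ℕ) (g : K.C a →ₗ[R] Esh D a m) (hg : Tors I g) :
    sgl D K a m g ∈ DRing.torsionSub I (V D K m) := by
  rw [mem_torsionSub_iff]
  intro b x
  by_cases hb : b = a
  · subst hb; rw [sgl_same]; exact hg x
  · rw [sgl_ne D K m g hb]; exact zero_mem _

/-- One step of the filtration. -/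
theorem fgMod_step [IsRegularRing R] (a k : ℕ)
    (hc : ∀ y : PrimeSpectrum R, I ≤ y.asIdeal → y ∈ Module.support R (Nc K a ⧸ DRing.torsionSub I (Nc K a)) →
      ∀ h : ℕ, y.asIdeal.height = h → a + (k + 1) ≠ L + h) :
    FgMod (Gf D K I a k) (Gf D K I (a + 1) k ⊔ Bt I (V D K) (δt D K) k) := by
  haveI := K.fin a
  haveI : IsNoetherian R (K.C a) := isNoetherian_of_isNoetherianRing_of_finite R _
  let Zc := LinearMap.ker (K.d a)
  let p : Zc →ₗ[R] Nc K a := Submodule.mkQ _
  let pull : ∀ m, (Nc K a →ₗ[R] Esh D a m) →ₗ[R] (Zc →ₗ[R] Esh D a m) := fun m => LinearMap.lcomp R _ p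
  let res : V D K (k + 1) →ₗ[R] (Zc →ₗ[R] Esh D a (k + 1)) := LinearMap.lcomp R (Esh D a (k + 1)) Zc.subtype ∘ₗ
    LinearMap.proj (R := R) (φ := fun b => K.C b →ₗ[R] Esh D b (k + 1)) a
  have h1 := fgMod_map (pull (k + 1)) (fgMod_tors_shift D I a k (Nc K a) hc)
  refine fgMod_mono (fgMod_of_map res (Gf D K I a k) _ (fgMod_mono h1 ?_ le_rfl)) le_rfl ?_
  · rintro _ ⟨z, ⟨⟨hzt, hzc⟩, hz0⟩, rfl⟩
    have hkill : (Bc K a).comap Zc.subtype ≤ LinearMap.ker (res z) := by
      cases a with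
      | zero =>
        intro x hx
        show z 0 x.1 = 0
        rw [show x.1 = 0 from hx, map_zero]
      | succ c =>
        rintro x ⟨w, hw⟩
        show z (c + 1) x.1 = 0
        have h := LinearMap.congr_fun (congrFun (show δt D K (k + 1) z = 0 from hzc) c) w
        rw [δt_apply, hz0 c (Nat.lt_succ_self c), LinearMap.zero_apply, map_zero, zero_sub] at h
        have h' : ((-1 : R) ^ (k + 1)) • pre D K c (k + 1) (z (c + 1)) w = 0 := neg_eq_zero.1 h
        have h'' := congrArg (fun v => ((-1 : R) ^ (k + 1)) • v) h'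
        simp only [smul_smul, neg_one_pow_sq, one_smul, smul_zero] at h''
        rw [show x.1 = K.d c w from hw.symm]
        exact h''
    refine ⟨Submodule.liftQ _ (res z) hkill, ⟨?_, fun q => ?_⟩, Submodule.liftQ_mkQ _ _ hkill⟩
    · refine LinearMap.mem_ker.2 (Submodule.linearMap_qext _ (LinearMap.ext fun x => ?_))
      show dsh D a (k + 1) (z a x.1) = 0
      have h := LinearMap.congr_fun (congrFun (show δt D K (k + 1) z = 0 from hzc) a) x.1
      rw [δt_apply, show pre D K a (k + 1) (z (a + 1)) x.1 = 0 from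
        (congrArg (z (a + 1)) (LinearMap.mem_ker.1 x.2)).trans (map_zero (z (a + 1))), smul_zero, sub_zero] at h
      exact h
    · obtain ⟨x, rfl⟩ := Submodule.mkQ_surjective _ q
      exact (mem_torsionSub_iff D K I (k + 1) z).1 hzt a x.1
  · rintro z ⟨⟨hzT, hz0⟩, f, ⟨g, hg, rfl⟩, hgz⟩
    let B := Bc K a
    let j : Nc K a →ₗ[R] (K.C a ⧸ B) := Submodule.mapQ _ _ Zc.subtype le_rfl
    have hj : Function.Injective j := by
      rw [← LinearMap.ker_eq_bot]
      exact Submodule.ker_liftQ_eq_bot _ _ _ (fun x hx => (Submodule.Quotient.mk_eq_zero B).1 hx)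
    obtain ⟨gt, hgt⟩ := (haveI := injective_Esh D a k; LocalCoh.injective_torsionSub I (Esh D a k)).out j hj
      (g.codRestrict _ hg)
    let G : K.C a →ₗ[R] Esh D a k := (DRing.torsionSub I (Esh D a k)).subtype ∘ₗ gt ∘ₗ B.mkQ
    obtain ⟨z1, hz1⟩ : ∃ z1 : V D K (k + 1), z1 = z - δt D K k (sgl D K a k G) := ⟨_, rfl⟩
    have hz1t : z1 ∈ DRing.torsionSub I (V D K (k + 1)) := by
      rw [hz1]
      exact Submodule.sub_mem _ hzT.1 (DRing.map_mem_torsionSub I _
        (sgl_mem_torsionSub D K I a k G fun x => (gt (B.mkQ x)).2))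
    have hz1lt : ∀ b, b < a → z1 b = 0 := fun b hb => by
      rw [hz1]
      show z b - δt D K k (sgl D K a k G) b = 0
      rw [hz0 b hb, zero_sub, neg_eq_zero]
      by_cases hb1 : b + 1 = a
      · subst hb1
        rw [δt_sgl_pred, neg_eq_zero]
        refine LinearMap.ext fun x => ?_
        show ((-1 : R) ^ k) • ((gt (B.mkQ (K.d b x)) : DRing.torsionSub I _) : Esh D (b + 1) k) = (0 : Esh D (b + 1) k)
        rw [show B.mkQ (K.d b x) = 0 from (Submodule.Quotient.mk_eq_zero B).2 ⟨x, rfl⟩, map_zero,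
          Submodule.coe_zero, smul_zero]
      · exact δt_sgl_ne D K k G (by omega) hb1
    have hz1a : LinearMap.ker (K.d a) ≤ LinearMap.ker (z1 a) := fun x hx => by
      rw [hz1]
      show z a x - δt D K k (sgl D K a k G) a x = 0
      rw [δt_sgl_same, sub_eq_zero]
      refine (LinearMap.congr_fun hgz ⟨x, hx⟩).symm.trans ?_
      show dsh D a k (g (p ⟨x, hx⟩)) = dsh D a k ((gt (B.mkQ x) : DRing.torsionSub I _) : Esh D a k)
      exact congrArg (dsh D a k) (congrArg Subtype.val (hgt (p ⟨x, hx⟩))).symm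
    obtain ⟨h, hh⟩ := (haveI := injective_Esh D a (k + 1);
        LocalCoh.injective_torsionSub I (Esh D a (k + 1))).out
      ((LinearMap.ker (K.d a)).liftQ (K.d a) le_rfl)
      (by rw [← LinearMap.ker_eq_bot]; exact Submodule.ker_liftQ_eq_bot _ _ _ le_rfl)
      ((LinearMap.ker (K.d a)).liftQ ((z1 a).codRestrict _ ((mem_torsionSub_iff D K I (k + 1) z1).1 hz1t a))
        fun x hx => LinearMap.mem_ker.2 (Subtype.ext (hz1a hx)))
    let h' : K.C (a + 1) →ₗ[R] Esh D (a + 1) k :=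
      ((DRing.torsionSub I (Esh D a (k + 1))).subtype ∘ₗ h : K.C (a + 1) →ₗ[R] Esh D a (k + 1))
    let w := sgl D K a k G - sgl D K (a + 1) k (((-1 : R) ^ k) • h')
    have hwt : w ∈ DRing.torsionSub I (V D K k) := Submodule.sub_mem _
      (sgl_mem_torsionSub D K I a k G fun x => (gt (B.mkQ x)).2)
      (sgl_mem_torsionSub D K I (a + 1) k _ fun x => Submodule.smul_mem _ _ (h x).2)
    have e : z - δt D K k w = z1 + δt D K k (sgl D K (a + 1) k (((-1 : R) ^ k) • h')) := by
      rw [hz1, show w = sgl D K a k G - sgl D K (a + 1) k (((-1 : R) ^ k) • h') from rfl, map_sub]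
      abel
    refine Submodule.mem_sup.2 ⟨z - δt D K k w, ⟨⟨Submodule.sub_mem _ hzT.1
      (DRing.map_mem_torsionSub I _ hwt), ?_⟩, fun b hb => ?_⟩, _, ⟨w, hwt, rfl⟩, sub_add_cancel _ _⟩
    · show δt D K (k + 1) (z - δt D K k w) = 0
      rw [map_sub, δt_δt, sub_zero]
      exact hzT.2
    · rw [e]
      show z1 b + δt D K k (sgl D K (a + 1) k _) b = 0
      rcases (Nat.lt_succ_iff.1 hb).lt_or_eq with hlt | rfl
      · rw [hz1lt b hlt, δt_sgl_ne D K k _ (by omega) (by omega), add_zero]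
      · rw [δt_sgl_pred]
        refine LinearMap.ext fun x => ?_
        show z1 b x + -(((-1 : R) ^ k) • pre D K b k (((-1 : R) ^ k) • h') x) = 0
        rw [map_smul, LinearMap.smul_apply, smul_smul, neg_one_pow_sq, one_smul, ← sub_eq_add_neg, sub_eq_zero]
        exact (congrArg Subtype.val (hh (Submodule.Quotient.mk x))).symm

/-- Torsion cycles are finitely generated modulo torsion boundaries. -/
theorem fgMod_Tc [IsRegularRing R] (k : ℕ)
    (hc : ∀ a, a ≤ L → ∀ y : PrimeSpectrum R, I ≤ y.asIdeal →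
      y ∈ Module.support R (Nc K a ⧸ DRing.torsionSub I (Nc K a)) →
        ∀ h : ℕ, y.asIdeal.height = h → a + (k + 1) ≠ L + h) :
    FgMod (Tc I (V D K) (δt D K) (k + 1)) (Bt I (V D K) (δt D K) k) := by
  suffices ∀ j a, a + j = L + 1 → FgMod (Gf D K I a k) (Bt I (V D K) (δt D K) k) from
    fgMod_mono (this (L + 1) 0 (zero_add _)) (fun z hz => ⟨hz, fun b hb => absurd hb (Nat.not_lt_zero b)⟩) le_rfl
  intro j
  induction j with
  | zero =>
    refine fun a ha => fgMod_of_le fun z hz => ?_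
    rw [show z = 0 from funext fun b => if hb : b < a then hz.2 b hb
      else comp_eq_zero_of_subsingleton D K b _ (by omega) _]
    exact zero_mem _
  | succ j ih =>
    intro a ha
    obtain ⟨Q, hQ, hle⟩ := ih (a + 1) (by omega)
    exact fgMod_trans (fgMod_step D K I a k (hc a (by omega))) ⟨Q, hQ, sup_le hle le_sup_right⟩

end Chase

end Groth.Agent.Lib.LCFin.TotalCx
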