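import Groth.Agent.Lib.LCFin.TotalCx.Chase
import Groth.Agent.Lib.LCFin.FinitenessThm
import Groth.Agent.Lib.LCFin.PrimeBetween
import Groth.Agent.Lib.LCFin.RelCodim
import Groth.Agent.Lib.LCFin.Faltings
import Groth.Agent.Lib.LCFin.Cd
import Mathlib.RingTheory.Ideal.AssociatedPrime.Localization

/-!
Finiteness of local cohomology from vanishing at the stalks of relative codimension one.
-/

set_option autoImplicit false
universe u

open CategoryTheory
open Groth.Agent.Lib.LocalCoh Groth.Agent.Lib.LCFin.Seq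

namespace Groth.Agent.Lib.LCFin.TotalCx

variable {R : Type u} [CommRing R] [IsNoetherianRing R]

/-- Below a prime of the support of a torsion-free module there is an immediately smaller prime of the
support missing the ideal. -/
theorem exists_covBy_mem_support (J : Ideal R) (N : Type u) [AddCommGroup N] [Module R N] [Module.Finite R N]
    (hN : DRing.torsionSub J N = ⊥) (y : PrimeSpectrum R) (hy : J ≤ y.asIdeal) (hys : y ∈ Module.support R N) :
    ∃ P : PrimeSpectrum R, P ⋖ y ∧ ¬ J ≤ P.asIdeal ∧ P ∈ Module.support R N := by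
  rw [Module.support_eq_zeroLocus] at hys
  obtain ⟨P₀, hP₀, hP₀y⟩ := Ideal.exists_minimalPrimes_le (J := y.asIdeal) hys
  obtain ⟨hP₀p, x, hx⟩ := isAssociatedPrime_iff.1 (Module.associatedPrimes.minimalPrimes_annihilator_subset_associatedPrimes R N hP₀)
  have hJ : ¬ J ≤ P₀ := fun hle => by
    have hx0 : x ∈ DRing.torsionSub J N := ⟨1, fun a ha => by
      rw [pow_one] at ha
      have := hle ha
      rw [hx, Submodule.mem_colon_singleton, Submodule.mem_bot] at this
      exact this⟩
    rw [hN, Submodule.mem_bot] at hx0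
    refine hP₀p.ne_top ((Ideal.eq_top_iff_one _).2 ?_)
    rw [hx, Submodule.mem_colon_singleton, Submodule.mem_bot, hx0, smul_zero]
  obtain ⟨a, haJ, haP⟩ := SetLike.not_le_iff_exists.1 hJ
  obtain ⟨t, ⟨htp, hP₀t, hty, hat⟩, hmax⟩ := set_has_maximal_iff_noetherian.mpr
    (inferInstance : IsNoetherianRing R) {t : Ideal R | t.IsPrime ∧ P₀ ≤ t ∧ t < y.asIdeal ∧ a ∉ t}
    ⟨P₀, hP₀p, le_rfl, lt_of_le_of_ne hP₀y (fun h => hJ (h ▸ hy)), haP⟩
  refine ⟨⟨t, htp⟩, ⟨hty, fun s hts hsy => ?_⟩, fun h => hat (h haJ), ?_⟩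
  · have hsy' : s.asIdeal < y.asIdeal := hsy
    have hts' : t < s.asIdeal := hts
    have hht : 1 < (y.asIdeal.map (Ideal.Quotient.mk t)).height := by
      haveI := HeightChain.map_mk_isPrime hts'.le
      haveI := HeightChain.map_mk_isPrime hty.le
      have h1 : (⊥ : Ideal (R ⧸ t)) < s.asIdeal.map (Ideal.Quotient.mk t) := by
        refine lt_of_le_of_ne bot_le fun h => hts'.ne' ?_
        rw [← HeightChain.comap_map_mk hts'.le, ← h, ← RingHom.ker_eq_comap_bot, Ideal.mk_ker]
      have h2 : s.asIdeal.map (Ideal.Quotient.mk t) < y.asIdeal.map (Ideal.Quotient.mk t) := by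
        refine lt_of_le_of_ne (Ideal.map_mono hsy'.le) fun h => hsy'.ne ?_
        rw [← HeightChain.comap_map_mk hts'.le, h, HeightChain.comap_map_mk hty.le]
      haveI : IsDomain (R ⧸ t) := Ideal.Quotient.isDomain t
      have e1 := Ideal.height_strict_mono_of_isPrime h1
      have e2 := Ideal.height_strict_mono_of_isPrime h2
      rw [Ideal.height_bot] at e1
      exact lt_of_le_of_lt (Order.one_le_iff_ne_zero.2 e1.ne') e2
    obtain ⟨t', ht'p, htt', ht'y, hat'⟩ := PrimeBetween.exists_between t y.asIdeal hty hht a hat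
    exact hmax t' ⟨ht'p, hP₀t.trans htt'.le, ht'y, hat'⟩ htt'
  · rw [Module.support_eq_zeroLocus]
    exact hP₀.1.2.trans hP₀t

/-- The critical heights do not occur in the supports of the duals. -/
theorem height_ne [IsRegularRing R] {A : Type u} [CommRing A] [IsNoetherianRing A] [Algebra R A]
    (hπ : Function.Surjective (algebraMap R A)) (I : Ideal A) (M : Type u) [AddCommGroup M] [Module A M]
    [Module R M] [IsScalarTower R A M] [Module.Finite R M] {L : ℕ} (S : Syz R M L) (i : ℕ)
    (h : ∀ p : PrimeSpectrum A, ¬ I ≤ p.asIdeal → ∀ c j : ℕ, SGA2.relCodim I p = c → j + c = i + 1 →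
      Subsingleton (LocCoh.H (IsLocalRing.maximalIdeal (Localization.AtPrime p.asIdeal)) j
        (LocalizedModule p.asIdeal.primeCompl M)))
    (a : ℕ) (y : PrimeSpectrum R) (hy : I.comap (algebraMap R A) ≤ y.asIdeal)
    (hys : y ∈ Module.support R (Nc S.coCx a ⧸ DRing.torsionSub (I.comap (algebraMap R A)) (Nc S.coCx a)))
    (hh : y.asIdeal.height = (a + i + 1 : ℕ)) : False := by
  haveI := S.coCx.fin a
  haveI : IsNoetherian R (S.coCx.C a) := isNoetherian_of_isNoetherianRing_of_finite R _
  haveI : Module.Finite R (S.K 0) := Module.Finite.equiv S.equiv.symm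
  obtain ⟨P, hcov, hPJ, hPs⟩ := exists_covBy_mem_support (I.comap (algebraMap R A))
    (Nc S.coCx a ⧸ DRing.torsionSub (I.comap (algebraMap R A)) (Nc S.coCx a))
    (Cd.torsionSub_quotient_eq_bot _ _) y hy hys
  have hPN : P ∈ Module.support R (Nc S.coCx a) :=
    Module.support_subset_of_surjective (Submodule.mkQ _) (Submodule.mkQ_surjective _) hPs
  haveI := Goren.Basic.isGorensteinLocalRing_of_isRegular (Localization.AtPrime y.asIdeal)
  haveI := Annihilator.isCohenMacaulay (R := Localization.AtPrime y.asIdeal)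
  obtain ⟨hP, hhP, hhP'⟩ := RelCodim.height_eq_add_one P y hcov (h₁ := a + i + 1)
    (by rw [IsLocalization.AtPrime.ringKrullDim_eq_height y.asIdeal, hh]; rfl)
  obtain rfl : hP = a + i := by omega
  -- local cohomology of the stalk in degree `i`
  have hH : Subsingleton (LocCoh.H (IsLocalRing.maximalIdeal (Localization.AtPrime P.asIdeal)) i
      (LocalizedModule P.asIdeal.primeCompl M)) := by
    by_cases hk : RingHom.ker (algebraMap R A) ≤ P.asIdeal
    · have hp : (P.asIdeal.map (algebraMap R A)).IsPrime := Ideal.map_isPrime_of_surjective hπ hk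
      have hcomap : ∀ z : Ideal R, RingHom.ker (algebraMap R A) ≤ z →
          (z.map (algebraMap R A)).comap (algebraMap R A) = z := fun z hz => by
        rw [Ideal.comap_map_of_surjective _ hπ]; exact sup_eq_left.2 hz
      have hky : RingHom.ker (algebraMap R A) ≤ y.asIdeal := hk.trans hcov.le
      have hq : (y.asIdeal.map (algebraMap R A)).IsPrime := Ideal.map_isPrime_of_surjective hπ hky
      have hpI : ¬ I ≤ P.asIdeal.map (algebraMap R A) := fun hle =>
        hPJ ((Ideal.comap_mono hle).trans (hcomap _ hk).le)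
      have hpq : (⟨_, hp⟩ : PrimeSpectrum A) ⋖ ⟨_, hq⟩ := by
        refine ⟨lt_of_le_of_ne (Ideal.map_mono hcov.le : P.asIdeal.map (algebraMap R A) ≤ _) fun e => ?_,
          fun z hpz hzq => ?_⟩
        · have e' := congrArg (fun w : PrimeSpectrum A => w.asIdeal.comap (algebraMap R A)) e
          simp only [hcomap _ hk, hcomap _ hky] at e'
          exact hcov.lt.ne (PrimeSpectrum.ext e')
        · refine hcov.2 (c := ⟨z.asIdeal.comap (algebraMap R A), inferInstance⟩) ?_ ?_
          · refine lt_of_le_of_ne (show P.asIdeal ≤ _ from (hcomap _ hk).ge.trans (Ideal.comap_mono hpz.le))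
              fun e => hpz.ne (PrimeSpectrum.ext ?_)
            show P.asIdeal.map (algebraMap R A) = z.asIdeal
            rw [show P.asIdeal = z.asIdeal.comap (algebraMap R A) from congrArg PrimeSpectrum.asIdeal e,
              Ideal.map_comap_of_surjective _ hπ]
          · refine lt_of_le_of_ne (show _ ≤ y.asIdeal from (Ideal.comap_mono hzq.le).trans (hcomap _ hky).le)
              fun e => hzq.ne (PrimeSpectrum.ext ?_)
            show z.asIdeal = y.asIdeal.map (algebraMap R A)
            rw [show y.asIdeal = z.asIdeal.comap (algebraMap R A) from (congrArg PrimeSpectrum.asIdeal e).symm,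
              Ideal.map_comap_of_surjective _ hπ]
      have hIq : I ≤ y.asIdeal.map (algebraMap R A) :=
        (Ideal.map_comap_of_surjective _ hπ I).ge.trans (Ideal.map_mono hy)
      have hc : SGA2.relCodim I (⟨_, hp⟩ : PrimeSpectrum A) = ((1 : ℕ) : ℕ∞) :=
        ((FinitenessThm.relCodim_eq_one_iff I (p := ⟨_, hp⟩) hpI).2 ⟨⟨_, hq⟩, hIq, hpq⟩).trans Nat.cast_one.symm
      obtain ⟨Pi, hPp⟩ := P
      dsimp only at *
      obtain ⟨p, rfl⟩ : ∃ p : Ideal A, Pi = p.comap (algebraMap R A) := ⟨_, (hcomap _ hk).symm⟩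
      have hmc := Ideal.map_comap_of_surjective _ hπ p
      have hp' : p.IsPrime := hmc ▸ hp
      have e0 : (⟨_, hp⟩ : PrimeSpectrum A) = ⟨p, hp'⟩ := PrimeSpectrum.ext hmc
      have := h ⟨p, hp'⟩ (fun hle => hpI (hle.trans hmc.ge)) 1 i
        ((congrArg (SGA2.relCodim I) e0).symm.trans hc) rfl
      obtain ⟨ε⟩ := Annihilator.nonempty_localized_H_addEquiv hπ M p i
      exact ε.toEquiv.subsingleton
    · obtain ⟨r, hr, hrq⟩ := SetLike.not_le_iff_exists.1 hk
      have : Subsingleton (LocalizedModule P.asIdeal.primeCompl M) :=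
        LocalizedModule.subsingleton_iff.2 fun m => ⟨r, hrq, by
          rw [← algebraMap_smul A r m, RingHom.mem_ker.1 hr, zero_smul]⟩
      exact ModuleCat.subsingleton_of_isZero ((localCohomology _ i).map_isZero
        (ModuleCat.isZero_of_subsingleton (ModuleCat.of _ (LocalizedModule P.asIdeal.primeCompl M))))
  let e : LocalizedModule P.asIdeal.primeCompl (S.K 0) ≃ₗ[Localization.AtPrime P.asIdeal]
      LocalizedModule P.asIdeal.primeCompl M :=
    LinearEquiv.ofBijective (LocalizedModule.map P.asIdeal.primeCompl S.equiv.toLinearMap)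
      ⟨LocalizedModule.map_injective _ _ S.equiv.injective, LocalizedModule.map_surjective _ _ S.equiv.surjective⟩
  haveI := Goren.Basic.isGorensteinLocalRing_of_isRegular (Localization.AtPrime P.asIdeal)
  have hR : ModuleCat.of (Localization P.asIdeal.primeCompl) (LocalizedModule P.asIdeal.primeCompl R) =
      ModuleCat.of (Localization.AtPrime P.asIdeal) (Localization.AtPrime P.asIdeal) := rfl
  have hExt : Subsingleton (LocalizedModule P.asIdeal.primeCompl
      (Abelian.Ext (S.K 0) (ModuleCat.of R R) a)) := by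
    obtain ⟨ψ⟩ := ExtLoc.nonempty_equiv P.asIdeal.primeCompl R a (S.K 0)
    rw [ψ.toEquiv.subsingleton_congr, hR,
      Annihilator.subsingleton_ext_iff hhP (LocalizedModule P.asIdeal.primeCompl (S.K 0)) a]
    intro j hj
    obtain rfl : j = i := by omega
    exact (lcLinearEquiv (IsLocalRing.maximalIdeal (Localization.AtPrime P.asIdeal)) j e).toEquiv.subsingleton
  haveI := Module.mem_support_iff.1 hPN
  refine not_subsingleton (LocalizedModule P.asIdeal.primeCompl (Nc S.coCx a)) ?_
  refine LocalizedModule.subsingleton_iff.2 fun n => ?_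
  obtain ⟨⟨z, hz⟩, rfl⟩ := Submodule.mkQ_surjective _ n
  obtain ⟨s, hs, hsz⟩ := exists_coboundary_of_ext S P.asIdeal.primeCompl a
    (fun ext => LocalizedModule.subsingleton_iff.1 hExt ext) z (LinearMap.mem_ker.1 hz)
  refine ⟨s, hs, ?_⟩
  rw [← map_smul, Submodule.mkQ_apply, Submodule.Quotient.mk_eq_zero]
  cases a with
  | zero => exact (Submodule.mem_bot R).2 hsz
  | succ b => obtain ⟨g, hg⟩ := hsz; exact ⟨g, hg.symm⟩

/-- Finiteness in positive degrees over the regular ring. -/
theorem finite_H_succ [IsRegularRing R] {A : Type u} [CommRing A] [IsNoetherianRing A] [Algebra R A]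
    (hπ : Function.Surjective (algebraMap R A)) (I : Ideal A) (M : Type u) [AddCommGroup M] [Module A M]
    [Module R M] [IsScalarTower R A M] [Module.Finite R M] (i : ℕ)
    (h : ∀ p : PrimeSpectrum A, ¬ I ≤ p.asIdeal → ∀ c j : ℕ, SGA2.relCodim I p = c → j + c = i + 1 →
      Subsingleton (LocCoh.H (IsLocalRing.maximalIdeal (Localization.AtPrime p.asIdeal)) j
        (LocalizedModule p.asIdeal.primeCompl M))) :
    Module.Finite R (LocCoh.H (I.comap (algebraMap R A)) (i + 1) M) := by
  obtain ⟨n, hn⟩ := Groth.Agent.S5165.result R M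
  obtain ⟨S⟩ := nonempty_syz (R := R) (n + 2) M (hasProjectiveDimensionLT_of_ge _ (n + 1) (n + 2 + 1) (by omega))
  obtain ⟨D⟩ := nonempty_injData (R := R) (n + 2)
  refine finite_H_of_fgMod D S.coCx (I.comap (algebraMap R A)) i
    (fgMod_Tc D S.coCx (I.comap (algebraMap R A)) (n + 2 + i) fun a _ y hy hys hgt hh e => ?_)
  obtain rfl : hgt = a + i + 1 := by omega
  exact height_ne hπ I M S i h a y hy hys hh

end Groth.Agent.Lib.LCFin.TotalCx
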