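import Groth.Agent.Lib.LCFin.TotalCx.Cycles
import Groth.Agent.Lib.LCFin.Annihilator
import Groth.Agent.Lib.Goren.Basic
import Groth.Agent.Lib.Depth.LocalCoh
import Groth.Agent.Lib.Depth.CM

/-!
Sections of the differential on torsion parts of a resolution of a Gorenstein local ring.
-/

set_option autoImplicit false
universe u

open CategoryTheory
open Groth.Agent.Lib.LocalCoh Groth.Agent.Lib.LCFin.Seq

namespace Groth.Agent.Lib.LCFin.TotalCx

variable {R : Type u} [CommRing R] [IsNoetherianRing R]

theorem injective_of_equiv {E F : Type u} [AddCommGroup E] [Module R E] [AddCommGroup F] [Module R F]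
    (hF : Module.Injective R F) (e : E ≃ₗ[R] F) : Module.Injective R E :=
  injective_of_retract hF e.toLinearMap e.symm.toLinearMap (LinearMap.ext fun x => e.symm_apply_apply x)

theorem injective_of_subsingleton (E : Type u) [AddCommGroup E] [Module R E] [Subsingleton E] :
    Module.Injective R E :=
  ⟨fun _ _ _ _ _ _ _ _ _ => ⟨0, fun _ => Subsingleton.elim _ _⟩⟩

section Local

variable [IsLocalRing R] {dd : ℕ} (hdd : ringKrullDim R = dd) {L : ℕ} (D : InjData R L)

local notation "𝔪" => IsLocalRing.maximalIdeal R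

section Low

variable [LocCoh.IsCohenMacaulayLocalRing R]
include hdd

theorem subsingleton_H (j : ℕ) (hj : j < dd) : Subsingleton (LocCoh.H 𝔪 j R) := by
  refine (Groth.Agent.Lib.Depth.LocalCoh.le_idealDepth_iff_H 𝔪 R dd).1 ?_ j hj
  have h : ((dd : ℕ∞) : WithBot ℕ∞) = ((LocCoh.depth R R : ℕ∞) : WithBot ℕ∞) :=
    (show ((dd : ℕ∞) : WithBot ℕ∞) = ringKrullDim R from hdd.symm).trans
      Depth.CM.ringKrullDim_eq_depth
  exact (WithBot.coe_injective h).le

theorem exists_boundary (j : ℕ) (hj : j + 1 < L + dd) (z : Tc 𝔪 D.E D.d (j + 1)) :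
    (z : D.E (j + 1)) ∈ Bt 𝔪 D.E D.d j := by
  rcases lt_trichotomy (j + 1) L with h | h | h
  · haveI := D.zero _ h
    rw [Subsingleton.elim (z : D.E (j + 1)) 0]
    exact zero_mem _
  · subst h
    obtain ⟨r, hr⟩ := (D.exactε z.1).1 z.2.2
    have h0 := subsingleton_H hdd 0 (by omega)
    have hr0 : r = 0 := by
      obtain ⟨n, hn⟩ := z.2.1
      let e := ((lcZeroIso 𝔪).app (ModuleCat.of R R)).toLinearEquiv
      haveI : Subsingleton ((DRing.gammaI 𝔪).obj (ModuleCat.of R R)) := e.toEquiv.symm.subsingleton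
      have hmem : r ∈ DRing.torsionSub 𝔪 R := ⟨n, fun a ha => D.ε_injective (by
        rw [map_smul, hr, map_zero]; exact hn a ha)⟩
      exact congrArg Subtype.val
        (Subsingleton.elim (α := (DRing.gammaI 𝔪).obj (ModuleCat.of R R)) ⟨r, hmem⟩ 0)
    rw [← hr, hr0, map_zero]
    exact zero_mem _
  · obtain ⟨i, rfl⟩ : ∃ i, j = L + i := ⟨j - L, by omega⟩
    obtain ⟨Φ, -, hker⟩ := exists_cycles_map 𝔪 D.E D.d D.inj i L (L + i) rfl fun k hk => D.exact k hk
    let eε : R ≃ₗ[R] LinearMap.ker (D.d L) :=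
      (LinearEquiv.ofInjective D.ε D.ε_injective).trans
        (LinearEquiv.ofEq _ _ D.exactε.linearMap_ker_eq.symm)
    haveI : Subsingleton (LocCoh.H 𝔪 (i + 1) (LinearMap.ker (D.d L))) :=
      haveI := subsingleton_H hdd (i + 1) (by omega)
      (lcLinearEquiv 𝔪 (i + 1) eε).toEquiv.symm.subsingleton
    exact (hker z).1 (Subsingleton.elim _ _)

theorem injective_Tc : ∀ j : ℕ, j < L + dd → Module.Injective R (Tc 𝔪 D.E D.d j) := by
  intro j
  induction j with
  | zero =>
    intro h
    haveI : Subsingleton (Tc 𝔪 D.E D.d 0) := by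
      refine subsingleton_of_forall_eq 0 fun z => Subtype.ext ?_
      rcases Nat.eq_zero_or_pos L with hL | hL
      · subst hL
        obtain ⟨r, hr⟩ := (D.exactε z.1).1 z.2.2
        obtain ⟨n, hn⟩ := z.2.1
        have h0 := subsingleton_H hdd 0 (by omega)
        let e := ((lcZeroIso 𝔪).app (ModuleCat.of R R)).toLinearEquiv
        haveI : Subsingleton ((DRing.gammaI 𝔪).obj (ModuleCat.of R R)) := e.toEquiv.symm.subsingleton
        have hmem : r ∈ DRing.torsionSub 𝔪 R := ⟨n, fun a ha => D.ε_injective (by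
          rw [map_smul, hr, map_zero]; exact hn a ha)⟩
        have hr0 : r = 0 := congrArg Subtype.val
          (Subsingleton.elim (α := (DRing.gammaI 𝔪).obj (ModuleCat.of R R)) ⟨r, hmem⟩ 0)
        rw [← hr, hr0, map_zero]
        rfl
      · haveI := D.zero 0 hL
        exact Subsingleton.elim _ _
    exact injective_of_subsingleton _
  | succ j ih =>
    intro h
    haveI : Module.Injective R (D.E j) := D.inj j
    let g : DRing.torsionSub 𝔪 (D.E j) →ₗ[R] D.E (j + 1) := D.d j ∘ₗ (DRing.torsionSub 𝔪 (D.E j)).subtype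
    have hk : Module.Injective R (LinearMap.ker g) :=
      injective_of_equiv (ih (by omega))
        { toFun := fun x => ⟨x.1.1, x.1.2, x.2⟩
          invFun := fun x => ⟨⟨x.1, x.2.1⟩, x.2.2⟩
          map_add' := fun _ _ => rfl
          map_smul' := fun _ _ => rfl
          left_inv := fun _ => rfl
          right_inv := fun _ => rfl }
    have hr : LinearMap.range g = Tc 𝔪 D.E D.d (j + 1) := by
      refine le_antisymm ?_ fun z hz => ?_
      · rintro _ ⟨x, rfl⟩
        exact ⟨DRing.map_mem_torsionSub 𝔪 (D.d j) x.2, LinearMap.congr_fun (D.d_d j) x.1⟩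
      · obtain ⟨y, hy, rfl⟩ := exists_boundary hdd D j h ⟨z, hz⟩
        exact ⟨⟨y, hy⟩, rfl⟩
    exact injective_of_equiv (injective_range g (injective_torsionSub 𝔪 (D.E j)) hk)
      (LinearEquiv.ofEq _ _ hr.symm)

end Low

section High

variable (hid : HasInjectiveDimensionLT (ModuleCat.of R R) (dd + 1))
include hid

theorem hasInjDim_cycles : ∀ j k : ℕ, j + k = dd →
    HasInjectiveDimensionLT (ModuleCat.of R (LinearMap.ker (D.d (L + j)))) (k + 1) := by
  intro j
  induction j with
  | zero =>
    intro k hk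
    obtain rfl : k = dd := by omega
    let eε : R ≃ₗ[R] LinearMap.ker (D.d L) :=
      (LinearEquiv.ofInjective D.ε D.ε_injective).trans
        (LinearEquiv.ofEq _ _ D.exactε.linearMap_ker_eq.symm)
    exact hasInjectiveDimensionLT_of_iso eε.toModuleIso (k + 1)
  | succ j ih =>
    intro k hk
    have h1 := ih (k + 1) (by omega)
    have hinj : CategoryTheory.Injective (ModuleCat.of R (D.E (L + j))) :=
      (Module.injective_iff_injective_object R (D.E (L + j))).1 (D.inj _)
    let g : D.E (L + j) →ₗ[R] LinearMap.ker (D.d (L + j + 1)) :=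
      (D.d (L + j)).codRestrict (LinearMap.ker (D.d (L + j + 1)))
        fun x => LinearMap.congr_fun (D.d_d (L + j)) x
    have hg : Function.Surjective g := fun y => by
      obtain ⟨x, hx⟩ := (D.exact (L + j) (Nat.le_add_right L j) y.1).1 y.2
      exact ⟨x, Subtype.ext hx⟩
    have hfg : Function.Exact (LinearMap.ker (D.d (L + j))).subtype g := LinearMap.exact_iff.2
      ((LinearMap.ker_codRestrict _ _ _).trans (Submodule.range_subtype _).symm)
    exact (ses_shortExact Subtype.val_injective hg hfg).hasInjectiveDimensionLT_X₃ (k + 1)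
      (hasInjectiveDimensionLT_of_ge _ 1 (k + 1) (by omega)) h1

theorem injective_cycles : ∀ i : ℕ, Module.Injective R (LinearMap.ker (D.d (L + dd + i))) := by
  intro i
  induction i with
  | zero =>
    have := hasInjDim_cycles D hid dd 0 rfl
    rw [← injective_iff_hasInjectiveDimensionLT_one] at this
    exact Module.injective_module_of_injective_object R _
  | succ i ih =>
    have h := injective_range (D.d (L + dd + i)) (D.inj _) ih
    exact injective_of_equiv h
      (LinearEquiv.ofEq _ _ (D.exact (L + dd + i) (by omega)).linearMap_ker_eq)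

end High

/-- Off the degree `L + dd`, the differential has a linear section on torsion cycles. -/
theorem exists_torsion_section [LocCoh.IsCohenMacaulayLocalRing R] (hdd : ringKrullDim R = dd)
    (hid : HasInjectiveDimensionLT (ModuleCat.of R R) (dd + 1)) (b : ℕ) (hb : b + 1 ≠ L + dd) :
    ∃ σ : Tc 𝔪 D.E D.d (b + 1) →ₗ[R] D.E b,
      ∀ z, σ z ∈ DRing.torsionSub 𝔪 (D.E b) ∧ D.d b (σ z) = z := by
  rcases lt_or_gt_of_ne hb with h | h
  · let g : DRing.torsionSub 𝔪 (D.E b) →ₗ[R] Tc 𝔪 D.E D.d (b + 1) :=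
      (D.d b ∘ₗ (DRing.torsionSub 𝔪 (D.E b)).subtype).codRestrict _ fun x =>
        ⟨DRing.map_mem_torsionSub 𝔪 (D.d b) x.2, LinearMap.congr_fun (D.d_d b) x.1⟩
    have hg : Function.Surjective g := fun z => by
      obtain ⟨y, hy, hyz⟩ := exists_boundary hdd D b h z
      exact ⟨⟨y, hy⟩, Subtype.ext hyz⟩
    have hk : Module.Injective R (LinearMap.ker g) :=
      injective_of_equiv (injective_Tc hdd D b (by omega))
        { toFun := fun x => ⟨x.1.1, x.1.2, congrArg Subtype.val x.2⟩
          invFun := fun x => ⟨⟨x.1, x.2.1⟩, Subtype.ext x.2.2⟩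
          map_add' := fun _ _ => rfl
          map_smul' := fun _ _ => rfl
          left_inv := fun _ => rfl
          right_inv := fun _ => rfl }
    obtain ⟨s, hs⟩ := exists_section g hg hk
    exact ⟨(DRing.torsionSub 𝔪 (D.E b)).subtype ∘ₗ s,
      fun z => ⟨(s z).2, congrArg Subtype.val (LinearMap.congr_fun hs z)⟩⟩
  · let g : D.E b →ₗ[R] LinearMap.ker (D.d (b + 1)) :=
      (D.d b).codRestrict (LinearMap.ker (D.d (b + 1))) fun x => LinearMap.congr_fun (D.d_d b) x
    have hg : Function.Surjective g := fun y => by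
      obtain ⟨x, hx⟩ := (D.exact b (by omega) y.1).1 y.2
      exact ⟨x, Subtype.ext hx⟩
    have hk : Module.Injective R (LinearMap.ker g) := by
      obtain ⟨i, rfl⟩ : ∃ i, b = L + dd + i := ⟨b - (L + dd), by omega⟩
      exact injective_of_equiv (injective_cycles D hid i)
        (LinearEquiv.ofEq _ _ (LinearMap.ker_codRestrict _ _ _))
    obtain ⟨s, hs⟩ := exists_section g hg hk
    refine ⟨s ∘ₗ Submodule.inclusion inf_le_right, fun z => ⟨?_, congrArg Subtype.val (LinearMap.congr_fun hs _)⟩⟩
    obtain ⟨n, hn⟩ := z.2.1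
    exact ⟨n, fun a ha => by
      rw [← map_smul, show a • z = 0 from Subtype.ext (hn a ha), map_zero]⟩

end Local

end Groth.Agent.Lib.LCFin.TotalCx
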