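import Groth.Agent.S5165
import Groth.Agent.Lib.LCFin.ExtLoc
import Mathlib.CategoryTheory.Abelian.Projective.Dimension
import Mathlib.LinearAlgebra.Dual.Lemmas
import Mathlib.RingTheory.Finiteness.Cardinality

/-!
Finite projective resolutions by syzygies, and the duals computing `Ext` into the ring.
-/

set_option autoImplicit false
universe u

open CategoryTheory
open Groth.Agent.Lib.LocalCoh Groth.Agent.Lib.LCFin.Seq

namespace Groth.Agent.Lib.LCFin.TotalCx

variable {R : Type u} [CommRing R]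

/-- A resolution of `M` by finite projective modules, vanishing above degree `L`. -/
structure Syz (R : Type u) [CommRing R] (M : Type u) [AddCommGroup M] [Module R M] (L : ℕ) :
    Type (u + 1) where
  /-- The projective modules. -/
  P : ℕ → ModuleCat.{u} R
  /-- The syzygies. -/
  K : ℕ → ModuleCat.{u} R
  /-- The covers. -/
  π : ∀ a, P a →ₗ[R] K a
  /-- The inclusions. -/
  ι : ∀ a, K (a + 1) →ₗ[R] P a
  π_surj : ∀ a, Function.Surjective (π a)
  ι_inj : ∀ a, Function.Injective (ι a)
  exact : ∀ a, Function.Exact (ι a) (π a)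
  fin : ∀ a, Module.Finite R (P a)
  proj : ∀ a, Module.Projective R (P a)
  zero : ∀ a, L < a → Subsingleton (P a)
  /-- The augmentation. -/
  equiv : K 0 ≃ₗ[R] M

/-- A module in degree zero. -/
def single0 (M : Type u) [AddCommGroup M] [Module R M] : ℕ → ModuleCat.{u} R
  | 0 => ModuleCat.of R M
  | _ + 1 => ModuleCat.of R PUnit

theorem nonempty_syz [IsNoetherianRing R] : ∀ (n : ℕ) (M : Type u) [AddCommGroup M] [Module R M]
    [Module.Finite R M], HasProjectiveDimensionLE (ModuleCat.of R M) n → Nonempty (Syz R M n) := by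
  intro n
  induction n with
  | zero =>
    intro M _ _ hfin hpd
    have hproj : Module.Projective R M :=
      (IsProjective.iff_projective M).2 ((projective_iff_hasProjectiveDimensionLE_zero _).2 hpd)
    have hz : ∀ a, Subsingleton (single0 (R := R) M (a + 1)) := fun a => inferInstanceAs (Subsingleton PUnit)
    refine ⟨{ P := single0 M, K := single0 M, π := fun a => LinearMap.id, ι := fun a => 0,
              π_surj := fun a => Function.surjective_id,
              ι_inj := fun a x y _ => (hz a).elim x y,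
              exact := fun a x => ⟨fun h => ⟨0, (map_zero _).trans h.symm⟩, fun ⟨_, h⟩ => h.symm.trans rfl⟩,
              fin := ?_, proj := ?_, zero := ?_, equiv := LinearEquiv.refl R M }⟩
    · rintro (_ | a)
      · exact hfin
      · exact inferInstanceAs (Module.Finite R PUnit)
    · rintro (_ | a)
      · exact hproj
      · exact inferInstanceAs (Module.Projective R PUnit)
    · rintro (_ | a) ha
      · exact absurd ha (lt_irrefl 0)
      · exact hz a
  | succ n ih =>
    intro M _ _ _ hpd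
    obtain ⟨s, π, hπ⟩ := Module.Finite.exists_fin' R M
    haveI : IsNoetherian R (Fin s → R) := isNoetherian_of_isNoetherianRing_of_finite R _
    have hF : Projective (ModuleCat.of R (Fin s → R)) := (IsProjective.iff_projective _).1 inferInstance
    obtain ⟨S⟩ := ih (LinearMap.ker π)
      (((ses_shortExact (Submodule.injective_subtype (LinearMap.ker π)) hπ
        (LinearMap.exact_subtype_ker_map π)).hasProjectiveDimensionLT_X₃_iff n hF).1 hpd)
    refine ⟨{
      P := fun a => Nat.rec (motive := fun _ => ModuleCat.{u} R) (ModuleCat.of R (Fin s → R)) (fun b _ => S.P b) a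
      K := fun a => Nat.rec (motive := fun _ => ModuleCat.{u} R) (ModuleCat.of R M) (fun b _ => S.K b) a
      π := fun a => match a with
        | 0 => π
        | b + 1 => S.π b
      ι := fun a => match a with
        | 0 => (LinearMap.ker π).subtype ∘ₗ S.equiv.toLinearMap
        | b + 1 => S.ι b
      π_surj := ?_, ι_inj := ?_, exact := ?_, fin := ?_, proj := ?_, zero := ?_
      equiv := LinearEquiv.refl R M }⟩
    · rintro (_ | b)
      exacts [hπ, S.π_surj b]
    · rintro (_ | b)
      exacts [Subtype.val_injective.comp S.equiv.injective, S.ι_inj b]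
    · rintro (_ | b)
      · intro x
        exact ⟨fun h => ⟨S.equiv.symm ⟨x, h⟩, congrArg Subtype.val (S.equiv.apply_symm_apply _)⟩,
          fun ⟨w, h⟩ => h ▸ LinearMap.mem_ker.1 (S.equiv w).2⟩
      · exact S.exact b
    · rintro (_ | b)
      exacts [inferInstanceAs (Module.Finite R (Fin s → R)), S.fin b]
    · rintro (_ | b)
      exacts [inferInstanceAs (Module.Projective R (Fin s → R)), S.proj b]
    · rintro (_ | b) hb
      · exact absurd hb (Nat.not_lt_zero _)
      · exact S.zero b (Nat.lt_of_succ_lt_succ hb)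

/-- A bounded cochain complex of projective modules resolving `M` after dualizing. -/
structure CoCx (R : Type u) [CommRing R] (M : Type u) [AddCommGroup M] [Module R M] (L : ℕ) :
    Type (u + 1) where
  /-- The terms. -/
  C : ℕ → ModuleCat.{u} R
  /-- The differential. -/
  d : ∀ a, C a →ₗ[R] C (a + 1)
  /-- The augmentation of the dual complex. -/
  η : (C 0 →ₗ[R] R) →ₗ[R] M
  fin : ∀ a, Module.Finite R (C a)
  proj : ∀ a, Module.Projective R (C a)
  zero : ∀ a, L < a → Subsingleton (C a)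
  d_d : ∀ a, d (a + 1) ∘ₗ d a = 0
  dual_exact : ∀ (b : ℕ) (φ : C (b + 1) →ₗ[R] R), φ ∘ₗ d b = 0 → ∃ ψ : C (b + 1 + 1) →ₗ[R] R, φ = ψ ∘ₗ d (b + 1)
  η_surj : Function.Surjective η
  η_ker : ∀ φ, η φ = 0 ↔ ∃ ψ : C 1 →ₗ[R] R, φ = ψ ∘ₗ d 0

variable {M : Type u} [AddCommGroup M] [Module R M] {L : ℕ} (S : Syz R M L)

/-- The differential of a resolution. -/
def Syz.dP (a : ℕ) : S.P (a + 1) →ₗ[R] S.P a := S.ι a ∘ₗ S.π (a + 1)

theorem Syz.dP_eq_zero_iff (a : ℕ) (x : S.P (a + 1)) :
    S.dP a x = 0 ↔ ∃ w, S.dP (a + 1) w = x := by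
  constructor
  · intro h
    obtain ⟨v, hv⟩ := (S.exact (a + 1) x).1 ((map_eq_zero_iff _ (S.ι_inj a)).1 h)
    obtain ⟨w, rfl⟩ := S.π_surj (a + 1 + 1) v
    exact ⟨w, hv⟩
  · rintro ⟨w, rfl⟩
    exact (congrArg (S.ι a) ((S.exact (a + 1)).apply_apply_eq_zero _)).trans (map_zero _)

/-- The dual complex of a resolution. -/
noncomputable def Syz.coCx : CoCx R M L :=
  haveI := S.fin
  haveI := S.proj
  { C := fun a => ModuleCat.of R (Module.Dual R (S.P a))
    d := fun a => (S.dP a).dualMap
    η := S.equiv.toLinearMap ∘ₗ S.π 0 ∘ₗ (Module.evalEquiv R (S.P 0)).symm.toLinearMap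
    fin := fun a => inferInstanceAs (Module.Finite R (Module.Dual R (S.P a)))
    proj := fun a => inferInstanceAs (Module.Projective R (Module.Dual R (S.P a)))
    zero := fun a ha => by
      have := S.zero a ha
      exact inferInstanceAs (Subsingleton (Module.Dual R (S.P a)))
    d_d := fun a => LinearMap.ext fun φ => LinearMap.ext fun x => by
      show φ (S.dP a (S.dP (a + 1) x)) = 0
      rw [(S.dP_eq_zero_iff a _).2 ⟨x, rfl⟩, map_zero]
    dual_exact := fun b φ hφ => by
      obtain ⟨x, rfl⟩ := (Module.evalEquiv R (S.P (b + 1))).surjective φ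
      have hx : S.dP b x = 0 := (Module.bijective_dual_eval R (S.P b)).1 (LinearMap.ext fun g => by
        rw [map_zero]; exact LinearMap.congr_fun hφ g)
      obtain ⟨w, rfl⟩ := (S.dP_eq_zero_iff b x).1 hx
      exact ⟨Module.Dual.eval R _ w, rfl⟩
    η_surj := S.equiv.surjective.comp ((S.π_surj 0).comp (LinearEquiv.surjective _))
    η_ker := fun φ => by
      obtain ⟨x, rfl⟩ := (Module.evalEquiv R (S.P 0)).surjective φ
      show S.equiv (S.π 0 ((Module.evalEquiv R (S.P 0)).symm (Module.evalEquiv R (S.P 0) x))) = 0 ↔ _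
      rw [LinearEquiv.symm_apply_apply, LinearEquiv.map_eq_zero_iff, S.exact 0]
      constructor
      · rintro ⟨v, rfl⟩
        obtain ⟨w, rfl⟩ := S.π_surj 1 v
        exact ⟨Module.Dual.eval R _ w, rfl⟩
      · rintro ⟨ψ, hψ⟩
        obtain ⟨w, rfl⟩ := (Module.evalEquiv R (S.P 1)).surjective ψ
        exact ⟨S.π 1 w, ((Module.evalEquiv R (S.P 0)).injective (LinearMap.ext fun g =>
          (LinearMap.congr_fun hψ g).trans rfl)).symm⟩ }

theorem exists_shift : ∀ (b j n : ℕ), n = b + j → ∃ Ψ : Abelian.Ext (S.K b) (ModuleCat.of R R) j →ₗ[R]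
    Abelian.Ext (S.K 0) (ModuleCat.of R R) n, 0 < j → Function.Injective Ψ := by
  intro b
  induction b with
  | zero =>
    intro j n hn
    obtain rfl : n = j := by omega
    exact ⟨LinearMap.id, fun _ => Function.injective_id⟩
  | succ b ih =>
    intro j n hn
    obtain ⟨Ψ, hΨ⟩ := ih (j + 1) n (by omega)
    refine ⟨Ψ ∘ₗ ExtLoc.extConn (S.ι_inj b) (S.π_surj b) (S.exact b) R j, fun hj => ?_⟩
    obtain ⟨j', rfl⟩ := Nat.exists_eq_add_one_of_ne_zero hj.ne'
    exact (hΨ (Nat.succ_pos _)).comp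
      (ExtLoc.extConn_succ_injective (S.ι_inj b) (S.π_surj b) (S.exact b) R (S.proj b) j')

/-- A multiplier killing `Ext` turns a cocycle of the dual complex into a coboundary. -/
theorem exists_coboundary_of_ext (W : Submonoid R) (a : ℕ)
    (hE : ∀ e : Abelian.Ext (S.K 0) (ModuleCat.of R R) a, ∃ s ∈ W, s • e = 0)
    (z : S.P a →ₗ[R] R) (hz : z ∘ₗ S.dP a = 0) :
    ∃ s ∈ W, (match a with
      | 0 => fun z => s • z = 0
      | b + 1 => fun z => ∃ g : S.P b →ₗ[R] R, s • z = g ∘ₗ S.dP b : (S.P a →ₗ[R] R) → Prop) z := by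
  have hk : LinearMap.ker (S.π a) ≤ LinearMap.ker z := fun x hx => by
    obtain ⟨v, rfl⟩ := (S.exact a x).1 hx
    obtain ⟨w, rfl⟩ := S.π_surj (a + 1) v
    exact LinearMap.congr_fun hz w
  let φ : S.K a →ₗ[R] R := (LinearMap.ker (S.π a)).liftQ z hk ∘ₗ
    ((S.π a).quotKerEquivOfSurjective (S.π_surj a)).symm.toLinearMap
  have hφ : φ ∘ₗ S.π a = z := LinearMap.ext fun x => by
    show (LinearMap.ker (S.π a)).liftQ z hk
      (((S.π a).quotKerEquivOfSurjective (S.π_surj a)).symm (S.π a x)) = z x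
    rw [show ((S.π a).quotKerEquivOfSurjective (S.π_surj a)).symm (S.π a x) = Submodule.Quotient.mk x from
      (LinearEquiv.symm_apply_eq _).2 rfl, Submodule.liftQ_apply]
  cases a with
  | zero =>
    obtain ⟨s, hs, h⟩ := hE ((ExtLoc.homEquiv (S.K 0) R).symm φ)
    refine ⟨s, hs, ?_⟩
    show s • z = 0
    rw [← hφ, ← LinearMap.smul_comp]
    rw [← map_smul, LinearEquiv.map_eq_zero_iff] at h
    rw [h, LinearMap.zero_comp]
  | succ b =>
    obtain ⟨Ψ, hΨ⟩ := exists_shift S b 1 (b + 1) rfl
    let c := ExtLoc.extConn (S.ι_inj b) (S.π_surj b) (S.exact b) R 0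
    obtain ⟨s, hs, h⟩ := hE (Ψ (c ((ExtLoc.homEquiv (S.K (b + 1)) R).symm φ)))
    refine ⟨s, hs, ?_⟩
    rw [← map_smul, map_eq_zero_iff Ψ (hΨ Nat.one_pos), ← map_smul] at h
    obtain ⟨g, hg⟩ := (ExtLoc.extConn_eq_zero_iff (S.ι_inj b) (S.π_surj b) (S.exact b) R 0 _).1 h
    refine ⟨ExtLoc.homEquiv (S.P b) R g, ?_⟩
    have e : s • φ = ExtLoc.homEquiv (S.P b) R g ∘ₗ S.ι b := by
      refine Eq.trans ?_ (ExtLoc.homEquiv_precomp R g)
      rw [hg, map_smul, LinearEquiv.apply_symm_apply]
    rw [← hφ, ← LinearMap.smul_comp, e]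
    rfl

end Groth.Agent.Lib.LCFin.TotalCx
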