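import Groth.Agent.Lib.LCFin.TotalCx.Resolution
import Groth.Agent.Lib.LCFin.TotalCx.Local
import Mathlib.Algebra.Module.Injective

/-!
The total complex of maps from a dual complex of a resolution into an injective resolution of the ring.
-/

set_option autoImplicit false
universe u

open CategoryTheory
open Groth.Agent.Lib.LocalCoh Groth.Agent.Lib.LCFin.Seq

namespace Groth.Agent.Lib.LCFin.TotalCx

variable {R : Type u} [CommRing R] {M : Type u} [AddCommGroup M] [Module R M] {L : ℕ}

/-- A product of injective modules. -/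
theorem injective_pi {ι : Type} (X : ι → Type u) [∀ i, AddCommGroup (X i)] [∀ i, Module R (X i)]
    (h : ∀ i, Module.Injective R (X i)) : Module.Injective R (∀ i, X i) := by
  refine Module.Baer.injective fun J g => ?_
  choose f hf using fun i => (h i).out J.subtype Subtype.val_injective (LinearMap.proj i ∘ₗ g)
  exact ⟨LinearMap.pi f, fun x hx => funext fun i => hf i ⟨x, hx⟩⟩

/-- Maps from a finite projective module into an injective module. -/
theorem injective_hom {P E : Type u} [AddCommGroup P] [Module R P] [AddCommGroup E] [Module R E]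
    [Module.Finite R P] [Module.Projective R P] (hE : Module.Injective R E) :
    Module.Injective R (P →ₗ[R] E) := by
  obtain ⟨n, p, hp⟩ := Module.Finite.exists_fin' R P
  obtain ⟨s, hs⟩ := Module.projective_lifting_property p LinearMap.id hp
  refine injective_of_retract (injective_pi (fun _ : Fin n => E) fun _ => hE)
    ((LinearEquiv.piRing R E (Fin n) R).toLinearMap ∘ₗ LinearMap.lcomp R E p)
    (LinearMap.lcomp R E s ∘ₗ (LinearEquiv.piRing R E (Fin n) R).symm.toLinearMap) ?_
  refine LinearMap.ext fun f => ?_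
  show ((LinearEquiv.piRing R E (Fin n) R).symm ((LinearEquiv.piRing R E (Fin n) R) (f ∘ₗ p))) ∘ₗ s = f
  rw [LinearEquiv.symm_apply_apply, LinearMap.comp_assoc, hs, LinearMap.comp_id]

/-- The shifted terms of the resolution. -/
def Esh (D : InjData R L) : ℕ → ℕ → ModuleCat.{u} R
  | 0, m => D.E m
  | a + 1, m => Esh D a (m + 1)

/-- The shifted differentials. -/
def dsh (D : InjData R L) : ∀ a m, Esh D a m →ₗ[R] Esh D a (m + 1)
  | 0, m => D.d m
  | a + 1, m => dsh D a (m + 1)

variable (D : InjData R L) (K : CoCx R M L)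

theorem injective_Esh : ∀ a m, Module.Injective R (Esh D a m)
  | 0, m => D.inj m
  | a + 1, m => injective_Esh a (m + 1)

theorem subsingleton_Esh : ∀ a m, a + m < L → Subsingleton (Esh D a m)
  | 0, m, h => D.zero m (by omega)
  | a + 1, m, h => subsingleton_Esh a (m + 1) (by omega)

theorem exact_dsh : ∀ a m, L ≤ a + m → Function.Exact (dsh D a m) (dsh D a (m + 1))
  | 0, m, h => D.exact m (by omega)
  | a + 1, m, h => exact_dsh a (m + 1) (by omega)

theorem dsh_dsh : ∀ a m, dsh D a (m + 1) ∘ₗ dsh D a m = 0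
  | 0, m => D.d_d m
  | a + 1, m => dsh_dsh a (m + 1)

theorem exists_augmentation : ∀ a m, a + m = L → ∃ e : R →ₗ[R] Esh D a m,
    Function.Injective e ∧ Function.Exact e (dsh D a m)
  | 0, m, h => by
    obtain rfl : m = L := by omega
    exact ⟨D.ε, D.ε_injective, D.exactε⟩
  | a + 1, m, h => exists_augmentation a (m + 1) (by omega)

/-- The terms of the total complex. -/
def V (m : ℕ) : ModuleCat.{u} R := ModuleCat.of R (∀ a, K.C a →ₗ[R] Esh D a m)

/-- Composition with the differential of the dual complex. -/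
def pre (a m : ℕ) : (K.C (a + 1) →ₗ[R] Esh D (a + 1) m) →ₗ[R] (K.C a →ₗ[R] Esh D a (m + 1)) :=
  (LinearMap.lcomp R (Esh D (a + 1) m) (K.d a) :
    (K.C (a + 1) →ₗ[R] Esh D (a + 1) m) →ₗ[R] (K.C a →ₗ[R] Esh D (a + 1) m))

/-- The differential of the total complex. -/
def δt (m : ℕ) : V D K m →ₗ[R] V D K (m + 1) :=
  LinearMap.pi fun a => LinearMap.llcomp R (K.C a) (Esh D a m) (Esh D a (m + 1)) (dsh D a m) ∘ₗ
    (LinearMap.proj (R := R) (φ := fun b => K.C b →ₗ[R] Esh D b m) a) -
    ((-1 : R) ^ m) • pre D K a m ∘ₗ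
      (LinearMap.proj (R := R) (φ := fun b => K.C b →ₗ[R] Esh D b m) (a + 1))

theorem δt_apply (m : ℕ) (z : V D K m) (a : ℕ) (x : K.C a) :
    δt D K m z a x = dsh D a m (z a x) - ((-1 : R) ^ m) • pre D K a m (z (a + 1)) x := rfl

theorem δt_eq (m : ℕ) (z : V D K m) (a : ℕ) :
    δt D K m z a = dsh D a m ∘ₗ z a - ((-1 : R) ^ m) • pre D K a m (z (a + 1)) := rfl

theorem δt_δt (m : ℕ) (z : V D K m) : δt D K (m + 1) (δt D K m z) = 0 := by
  funext a
  refine LinearMap.ext fun x => ?_
  rw [δt_apply]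
  show dsh D a (m + 1) (dsh D a m (z a x) - ((-1 : R) ^ m) • pre D K a m (z (a + 1)) x) -
    ((-1 : R) ^ (m + 1)) • (dsh D a (m + 1) (pre D K a m (z (a + 1)) x) -
      ((-1 : R) ^ m) • pre D K a (m + 1) (pre D K (a + 1) m (z (a + 1 + 1))) x) = 0
  rw [show pre D K a (m + 1) (pre D K (a + 1) m (z (a + 1 + 1))) x = 0 from
      (congrArg (z (a + 1 + 1)) (LinearMap.congr_fun (K.d_d a) x)).trans (map_zero (z (a + 1 + 1))), map_sub,
    show dsh D a (m + 1) (dsh D a m (z a x)) = 0 from LinearMap.congr_fun (dsh_dsh D a m) _, map_smul]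
  rw [smul_zero, sub_zero, pow_succ, mul_neg_one, neg_smul]
  abel

theorem injective_V (m : ℕ) : Module.Injective R (V D K m) :=
  injective_pi (fun a => K.C a →ₗ[R] Esh D a m) fun a =>
    haveI := K.fin a
    haveI := K.proj a
    injective_hom (injective_Esh D a m)

theorem mem_torsionSub_iff (I : Ideal R) (m : ℕ) (z : V D K m) :
    z ∈ DRing.torsionSub I (V D K m) ↔ ∀ (a : ℕ) x, z a x ∈ DRing.torsionSub I (Esh D a m) := by
  constructor
  · rintro ⟨n, hn⟩ a x
    exact ⟨n, fun c hc => LinearMap.congr_fun (congrFun (hn c hc) a) x⟩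
  · intro h
    have hb : ∀ a, ∃ n : ℕ, ∀ c ∈ I ^ n, ∀ x, c • z a x = 0 := fun a =>
      haveI := K.fin a
      LocalCoh.exists_pow_smul_eq_zero I (z a) (h a)
    choose n hn using hb
    refine ⟨(Finset.range (L + 1)).sup n, fun c hc => ?_⟩
    funext a
    refine LinearMap.ext fun x => ?_
    show c • z a x = 0
    by_cases ha : a ≤ L
    · exact hn a c (Ideal.pow_le_pow_right (Finset.le_sup (Finset.mem_range.2 (by omega))) hc) x
    · haveI := K.zero a (by omega)
      rw [Subsingleton.elim x 0, map_zero, smul_zero]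

/-- The embedding of a component. -/
def sgl (a m : ℕ) : (K.C a →ₗ[R] Esh D a m) →ₗ[R] V D K m :=
  LinearMap.single R (fun b => K.C b →ₗ[R] Esh D b m) a

theorem sgl_same (a m : ℕ) (g : K.C a →ₗ[R] Esh D a m) : sgl D K a m g a = g :=
  Pi.single_eq_same (M := fun b => K.C b →ₗ[R] Esh D b m) a g

theorem sgl_ne {a b : ℕ} (m : ℕ) (g : K.C a →ₗ[R] Esh D a m) (h : b ≠ a) : sgl D K a m g b = 0 :=
  Pi.single_eq_of_ne (M := fun b => K.C b →ₗ[R] Esh D b m) h g

theorem δt_sgl_same (a m : ℕ) (g : K.C a →ₗ[R] Esh D a m) :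
    δt D K m (sgl D K a m g) a = dsh D a m ∘ₗ g := by
  rw [δt_eq, sgl_same, sgl_ne D K m g (Nat.succ_ne_self a), map_zero, smul_zero, sub_zero]

theorem δt_sgl_pred (a m : ℕ) (g : K.C (a + 1) →ₗ[R] Esh D (a + 1) m) :
    δt D K m (sgl D K (a + 1) m g) a = -(((-1 : R) ^ m) • pre D K a m g) := by
  rw [δt_eq, sgl_same, sgl_ne D K m g (Nat.succ_ne_self a).symm, LinearMap.comp_zero, zero_sub]

theorem δt_sgl_ne {a b : ℕ} (m : ℕ) (g : K.C a →ₗ[R] Esh D a m) (h : b ≠ a) (h' : b + 1 ≠ a) :
    δt D K m (sgl D K a m g) b = 0 := by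
  rw [δt_eq, sgl_ne D K m g h, sgl_ne D K m g h', LinearMap.comp_zero, map_zero, smul_zero, sub_zero]

theorem δt_top (m : ℕ) (z : V D K m) (a : ℕ) (h : z (a + 1) = 0) :
    δt D K m z a = dsh D a m ∘ₗ z a := by
  rw [δt_eq, h, map_zero, smul_zero, sub_zero]

theorem comp_eq_zero_of_subsingleton (a m : ℕ) (ha : L < a) (g : K.C a →ₗ[R] Esh D a m) : g = 0 :=
  haveI := K.zero a ha
  LinearMap.ext fun x => by rw [Subsingleton.elim x 0, map_zero, map_zero]

/-- Components above the degree of the resolution can be removed by boundaries. -/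
theorem exists_clean (m : ℕ) : ∀ (j a₀ : ℕ), a₀ + j = L + 1 → L ≤ a₀ + m → ∀ z : V D K (m + 1),
    (∀ b, a₀ ≤ b → δt D K (m + 1) z b = 0) → ∃ y : V D K m, ∀ b, a₀ ≤ b → (z - δt D K m y) b = 0 := by
  intro j
  induction j with
  | zero => exact fun a₀ h _ z _ => ⟨0, fun b hb => comp_eq_zero_of_subsingleton D K b _ (by omega) _⟩
  | succ j ih =>
    intro a₀ h hL z hz
    obtain ⟨y, hy⟩ := ih (a₀ + 1) (by omega) (by omega) z fun b hb => hz b (by omega)
    obtain ⟨z', hz'⟩ : ∃ z' : V D K (m + 1), z' = z - δt D K m y := ⟨_, rfl⟩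
    rw [← hz'] at hy
    have hd : dsh D a₀ (m + 1) ∘ₗ z' a₀ = 0 := by
      rw [← δt_top D K (m + 1) z' a₀ (hy (a₀ + 1) le_rfl), hz', map_sub, δt_δt, sub_zero]
      exact hz a₀ le_rfl
    haveI := K.proj a₀
    obtain ⟨g, hg⟩ := Module.projective_lifting_property (dsh D a₀ m).rangeRestrict
      ((z' a₀).codRestrict (LinearMap.range (dsh D a₀ m)) fun x =>
        (exact_dsh D a₀ m hL _).1 (LinearMap.congr_fun hd x)) (dsh D a₀ m).surjective_rangeRestrict
    refine ⟨y + sgl D K a₀ m g, fun b hb => ?_⟩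
    have e : z - δt D K m (y + sgl D K a₀ m g) = z' - δt D K m (sgl D K a₀ m g) := by
      rw [hz', map_add]; abel
    rw [e]
    show z' b - δt D K m (sgl D K a₀ m g) b = 0
    rcases hb.eq_or_lt with rfl | hlt
    · rw [δt_sgl_same, sub_eq_zero]
      exact LinearMap.ext fun x => (congrArg Subtype.val (LinearMap.congr_fun hg x)).symm
    · rw [δt_sgl_ne D K m g (by omega) (by omega), sub_zero]
      exact hy b hlt

/-- Exactness above the degree of the resolution. -/
theorem exact_δt (k : ℕ) (hk : L ≤ k) : Function.Exact (δt D K k) (δt D K (k + 1)) := fun z => by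
  refine ⟨fun hz => ?_, fun ⟨y, hy⟩ => hy ▸ δt_δt D K k y⟩
  obtain ⟨y, hy⟩ := exists_clean D K k (L + 1) 0 (zero_add _) (by omega) z fun b _ => congrFun hz b
  exact ⟨y, (sub_eq_zero.1 (funext fun b => hy b b.zero_le)).symm⟩

/-- A factorization through the augmentation. -/
theorem exists_factor (a m : ℕ) (e : R →ₗ[R] Esh D a m) (he : Function.Exact e (dsh D a m))
    (g : K.C a →ₗ[R] Esh D a m) (hg : dsh D a m ∘ₗ g = 0) : ∃ φ : K.C a →ₗ[R] R, e ∘ₗ φ = g := by
  haveI := K.proj a
  obtain ⟨φ, hφ⟩ := Module.projective_lifting_property e.rangeRestrict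
    (g.codRestrict (LinearMap.range e) fun x => (he _).1 (LinearMap.congr_fun hg x))
    e.surjective_rangeRestrict
  exact ⟨φ, LinearMap.ext fun x => congrArg Subtype.val (LinearMap.congr_fun hφ x)⟩

theorem neg_one_pow_sq (m : ℕ) : ((-1 : R) ^ m) * ((-1 : R) ^ m) = 1 := by
  rw [← mul_pow, neg_one_mul, neg_neg, one_pow]

/-- A cycle with a single component in the degree of the augmentation. -/
theorem single_mem_range (c m : ℕ) (hc : c + 1 + (m + 1) = L) (z : V D K (m + 1))
    (hz : δt D K (m + 1) z = 0) (hzb : ∀ b, b ≠ c + 1 → z b = 0) : z ∈ LinearMap.range (δt D K m) := by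
  obtain ⟨e, hei, hee⟩ := exists_augmentation D (c + 1) (m + 1) hc
  obtain ⟨φ, hφ⟩ := exists_factor D K (c + 1) (m + 1) e hee (z (c + 1))
    ((δt_top D K (m + 1) z (c + 1) (hzb _ (Nat.succ_ne_self _))).symm.trans (congrFun hz _))
  have hφd : φ ∘ₗ K.d c = 0 := LinearMap.ext fun x => hei (by
    have h := LinearMap.congr_fun (congrFun hz c) x
    rw [δt_apply, hzb c (Nat.succ_ne_self c).symm, LinearMap.zero_apply, map_zero, zero_sub] at h
    have h' : ((-1 : R) ^ (m + 1)) • pre D K c (m + 1) (z (c + 1)) x = 0 :=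
      neg_eq_zero.1 h
    have h'' : pre D K c (m + 1) (z (c + 1)) x = 0 := by
      have := congrArg (fun w => ((-1 : R) ^ (m + 1)) • w) h'
      simp only [smul_smul, neg_one_pow_sq, one_smul, smul_zero] at this
      exact this
    rw [LinearMap.zero_apply, map_zero]
    exact (LinearMap.congr_fun hφ (K.d c x)).trans h'')
  obtain ⟨ψ, hψ⟩ := K.dual_exact c φ hφd
  let e' : R →ₗ[R] Esh D (c + 1 + 1) m := e
  refine ⟨sgl D K (c + 1 + 1) m ((-((-1 : R) ^ m)) • (e' ∘ₗ ψ)), ?_⟩
  funext b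
  by_cases h2 : b = c + 1 + 1
  · subst h2
    rw [δt_sgl_same, hzb _ (by omega)]
    refine LinearMap.ext fun x => ?_
    show dsh D (c + 1 + 1) m ((-((-1 : R) ^ m)) • e' (ψ x)) = 0
    rw [map_smul, show dsh D (c + 1 + 1) m (e' (ψ x)) = 0 from hee.apply_apply_eq_zero (ψ x), smul_zero]
  by_cases h1 : b = c + 1
  · subst h1
    rw [δt_sgl_pred, ← hφ, hψ]
    refine LinearMap.ext fun x => ?_
    show -(((-1 : R) ^ m) • ((-((-1 : R) ^ m)) • e (ψ (K.d (c + 1) x)))) = e (ψ (K.d (c + 1) x))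
    rw [smul_smul, mul_neg, neg_one_pow_sq, neg_smul, one_smul, neg_neg]
  · rw [δt_sgl_ne D K m _ h2 (by omega), hzb b h1]

/-- Cycles below the degree of the resolution are boundaries. -/
theorem ker_le_range_of_lt (m : ℕ) (hm : m + 1 < L) :
    LinearMap.ker (δt D K (m + 1)) ≤ LinearMap.range (δt D K m) := fun z hz => by
  obtain ⟨y, hy⟩ := exists_clean D K m (m + 1) (L - m) (by omega) (by omega) z
    fun b _ => congrFun (show δt D K (m + 1) z = 0 from hz) b
  obtain ⟨c, hc⟩ : ∃ c, c + 1 + (m + 1) = L := ⟨L - m - 2, by omega⟩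
  obtain ⟨w, hw⟩ := single_mem_range D K c m hc (z - δt D K m y)
    (by rw [map_sub, LinearMap.mem_ker.1 hz, δt_δt, sub_zero]) fun b hb => by
      by_cases hbL : L - m ≤ b
      · exact hy b hbL
      · haveI := subsingleton_Esh D b (m + 1) (by omega)
        exact LinearMap.ext fun x => Subsingleton.elim _ _
  exact ⟨w + y, by rw [map_add, hw, sub_add_cancel]⟩

theorem ker_zero (hL : 2 ≤ L) : LinearMap.ker (δt D K 0) = ⊥ := by
  rw [Submodule.eq_bot_iff]
  intro z hz
  have h0 : ∀ b, b ≠ L → z b = 0 := fun b hb => by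
    rcases lt_or_gt_of_ne hb with h | h
    · haveI := subsingleton_Esh D b 0 (by omega)
      exact LinearMap.ext fun x => Subsingleton.elim _ _
    · exact comp_eq_zero_of_subsingleton D K b 0 h _
  funext b
  by_cases hb : b = L
  swap
  · exact h0 b hb
  obtain ⟨c, rfl⟩ : ∃ c, L = c + 1 := ⟨L - 1, by omega⟩
  subst hb
  obtain ⟨e, hei, hee⟩ := exists_augmentation D (c + 1) 0 rfl
  obtain ⟨φ, hφ⟩ := exists_factor D K (c + 1) 0 e hee (z (c + 1))
    ((δt_top D K 0 z (c + 1) (h0 _ (by omega))).symm.trans (congrFun (show δt D K 0 z = 0 from hz) _))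
  have hφd : φ ∘ₗ K.d c = 0 := LinearMap.ext fun x => hei (by
    have h := LinearMap.congr_fun (congrFun (show δt D K 0 z = 0 from hz) c) x
    rw [δt_apply, h0 c (by omega), LinearMap.zero_apply, map_zero, zero_sub, pow_zero, one_smul] at h
    rw [LinearMap.zero_apply, map_zero]
    exact (LinearMap.congr_fun hφ (K.d c x)).trans (neg_eq_zero.1 h))
  obtain ⟨ψ, hψ⟩ := K.dual_exact c φ hφd
  haveI := K.zero (c + 1 + 1) (by omega)
  rw [← hφ, hψ]
  exact LinearMap.ext fun x => by
    show e (ψ (K.d (c + 1) x)) = 0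
    rw [Subsingleton.elim (K.d (c + 1) x) 0, map_zero, map_zero]

theorem injective_ker [IsNoetherianRing R] (hL : 2 ≤ L) : ∀ m, m < L → Module.Injective R (LinearMap.ker (δt D K m))
  | 0, _ => by
    rw [ker_zero D K hL]
    exact injective_of_subsingleton _
  | m + 1, hm => by
    rw [le_antisymm (ker_le_range_of_lt D K m hm) (fun z hz => by
      obtain ⟨y, rfl⟩ := hz; exact δt_δt D K m y)]
    exact injective_range _ (injective_V D K m) (injective_ker hL m (by omega))

end Groth.Agent.Lib.LCFin.TotalCx
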