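import Groth.Agent.Lib.LCFin.TotalCx.Local
import Groth.Agent.Lib.Goren.Basic
import Groth.Agent.Lib.Goren.Global
import Groth.Agent.S11313
import Mathlib.RingTheory.LocalProperties.Injective
import Mathlib.Algebra.Module.LocalizedModule.Exact
import Mathlib.Algebra.Module.FinitePresentation
import Mathlib.RingTheory.RegularLocalRing.Defs
import Mathlib.RingTheory.Ideal.Height
import Mathlib.RingTheory.Ideal.KrullsHeightTheorem

/-!
Cocycles with torsion values are locally coboundaries away from the critical height.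
-/

set_option autoImplicit false
universe u

open CategoryTheory

namespace Groth.Agent.Lib.LCFin.TotalCx

section General

variable {R : Type u} [CommRing R]

/-- A linear map with torsion values. -/
def Tors (I : Ideal R) {N M : Type u} [AddCommGroup N] [Module R N] [AddCommGroup M] [Module R M]
    (f : N →ₗ[R] M) : Prop :=
  ∀ x, f x ∈ DRing.torsionSub I M

theorem exists_kill (S : Submonoid R) {P E : Type u} [AddCommGroup P] [Module R P] [Module.Finite R P]
    [AddCommGroup E] [Module R E] (φ : P →ₗ[R] E)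
    (h : ∀ x, LocalizedModule.mkLinearMap S E (φ x) = 0) : ∃ t ∈ S, t • φ = 0 := by
  classical
  obtain ⟨s, hs⟩ := Module.finite_def.1 (inferInstance : Module.Finite R P)
  have hx : ∀ x, ∃ t ∈ S, t • φ x = 0 := fun x => by
    obtain ⟨t, ht⟩ := (IsLocalizedModule.eq_zero_iff S (LocalizedModule.mkLinearMap S E)).1 (h x)
    exact ⟨t.1, t.2, ht⟩
  choose t htS ht using hx
  refine ⟨∏ x ∈ s, t x, S.prod_mem fun x _ => htS x, LinearMap.ext fun y => ?_⟩
  have hy : y ∈ Submodule.span R (s : Set P) := by rw [hs]; trivial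
  induction hy using Submodule.span_induction with
  | mem y hy =>
    rw [LinearMap.smul_apply, ← Finset.prod_erase_mul s t hy, mul_smul, ht, smul_zero, LinearMap.zero_apply]
  | zero => simp
  | add y z _ _ h₁ h₂ => simp only [LinearMap.smul_apply, LinearMap.zero_apply, map_add, smul_add] at *; rw [h₁, h₂, add_zero]
  | smul r y _ h₁ =>
    simp only [LinearMap.smul_apply, LinearMap.zero_apply, map_smul] at *
    rw [h₁]

theorem exists_split [IsNoetherianRing R] (a : R) (G : Type u) [AddCommGroup G] [Module R G]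
    (hG : Module.Injective R G) :
    ∃ r : G →ₗ[R] G, (∀ x, r x ∈ DRing.torsionSub (Ideal.span {a}) G) ∧
      ∀ k : ℕ, ∃ m : G →ₗ[R] G, ∀ x, x - r x = a ^ k • m x := by
  haveI := hG
  let T := DRing.torsionSub (Ideal.span {a}) G
  have hmemT : ∀ x : G, (∃ n : ℕ, a ^ n • x = 0) → x ∈ T := fun x ⟨n, hn⟩ => ⟨n, fun c hc => by
    rw [Ideal.span_singleton_pow, Ideal.mem_span_singleton'] at hc
    obtain ⟨c', rfl⟩ := hc
    rw [mul_smul, hn, smul_zero]⟩
  obtain ⟨r₀, hr₀⟩ := (LocalCoh.injective_torsionSub (Ideal.span {a}) G).out T.subtype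
    Subtype.val_injective LinearMap.id
  let r : G →ₗ[R] G := T.subtype ∘ₗ r₀
  have hrT : ∀ x ∈ T, r x = x := fun x hx => congrArg Subtype.val (hr₀ ⟨x, hx⟩)
  let C := LinearMap.ker r
  let μ : C →ₗ[R] C := LinearMap.lsmul R C a
  have hTC : ∀ x : G, x ∈ T → x ∈ C → x = 0 := fun x h1 h2 => (hrT x h1).symm.trans h2
  have hμ : Function.Bijective μ := by
    refine ⟨(injective_iff_map_eq_zero μ).2 fun x hx => Subtype.ext (hTC x.1 (hmemT x.1 ⟨1, ?_⟩) x.2), fun x => ?_⟩
    · rw [pow_one]; exact congrArg Subtype.val hx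
    · obtain ⟨y, hy⟩ := Groth.Agent.S11313.result R G a (LocalizedModule.mk x.1 ⟨a, 1, pow_one a⟩)
      rw [LocalizedModule.mkLinearMap_apply, LocalizedModule.mk_eq] at hy
      obtain ⟨⟨u, j, rfl⟩, hu⟩ := hy
      simp only [Submonoid.smul_def, one_smul] at hu
      have hT : a • y - x.1 ∈ T := hmemT _ ⟨j, by rw [smul_sub, hu, sub_self]⟩
      have hy' : y - r y ∈ C := by
        show r (y - r y) = 0
        rw [map_sub, hrT (r y) (r₀ y).2, sub_self]
      refine ⟨⟨y - r y, hy'⟩, Subtype.ext (sub_eq_zero.1 (hTC _ ?_ ?_))⟩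
      · show a • (y - r y) - x.1 ∈ T
        rw [show a • (y - r y) - x.1 = (a • y - x.1) - a • r y by rw [smul_sub]; abel]
        exact Submodule.sub_mem _ hT (T.smul_mem _ (r₀ y).2)
      · exact C.sub_mem (C.smul_mem a hy') x.2
  refine ⟨r, fun x => (r₀ x).2, fun k => ?_⟩
  let π : G →ₗ[R] C := (LinearMap.id - r).codRestrict C fun x => by
    show r (x - r x) = 0
    rw [map_sub, hrT (r x) (r₀ x).2, sub_self]
  have hk : Function.Bijective (μ ^ k : C →ₗ[R] C) := by
    rw [Module.End.coe_pow]; exact hμ.iterate k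
  refine ⟨C.subtype ∘ₗ (LinearEquiv.ofBijective _ hk).symm.toLinearMap ∘ₗ π, fun x => ?_⟩
  have h1 := (LinearEquiv.ofBijective _ hk).apply_symm_apply (π x)
  have hpow : ∀ (j : ℕ) (z : C), (μ ^ j : C →ₗ[R] C) z = a ^ j • z := by
    intro j
    induction j with
    | zero => intro z; simp
    | succ j ih => intro z; rw [pow_succ', Module.End.mul_apply, ih, pow_succ', mul_smul]; rfl
  rw [LinearEquiv.ofBijective_apply, hpow] at h1
  exact (congrArg Subtype.val h1).symm

end General

variable {R : Type u} [CommRing R]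

/-- The localization of a resolution at a prime. -/
noncomputable def InjData.localize [IsNoetherianRing R] {L : ℕ} (D : InjData R L) (z : Ideal R) [z.IsPrime] :
    InjData (Localization.AtPrime z) L where
  E b := ModuleCat.of (Localization.AtPrime z) (LocalizedModule z.primeCompl (D.E b))
  d b := LocalizedModule.map z.primeCompl (D.d b)
  ε := LocalizedModule.map z.primeCompl D.ε
  inj b := haveI := D.inj b
    Module.injective_of_isLocalizedModule z.primeCompl (LocalizedModule.mkLinearMap z.primeCompl (D.E b))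
  zero b hb := haveI := D.zero b hb
    LocalizedModule.subsingleton_iff.2 fun x => ⟨1, z.primeCompl.one_mem, by rw [one_smul]; exact Subsingleton.elim _ _⟩
  ε_injective := LocalizedModule.map_injective z.primeCompl D.ε D.ε_injective
  exactε := LocalizedModule.map_exact z.primeCompl _ _ D.exactε
  exact b hb := LocalizedModule.map_exact z.primeCompl _ _ (D.exact b hb)

variable [IsRegularRing R] {L : ℕ} (D : InjData R L)

/-- The multipliers turning a cocycle into a coboundary of a torsion valued map. -/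
def coIdeal (J : Ideal R) (b : ℕ) {N : Type u} [AddCommGroup N] [Module R N] (f : N →ₗ[R] D.E (b + 1)) :
    Ideal R where
  carrier := {s | ∃ g : N →ₗ[R] D.E b, Tors J g ∧ s • f = D.d b ∘ₗ g}
  add_mem' := by
    rintro s t ⟨g, hg, e⟩ ⟨g', hg', e'⟩
    exact ⟨g + g', fun x => Submodule.add_mem _ (hg x) (hg' x), by rw [add_smul, e, e', LinearMap.comp_add]⟩
  zero_mem' := ⟨0, fun x => zero_mem _, by rw [zero_smul, LinearMap.comp_zero]⟩
  smul_mem' := by
    rintro c s ⟨g, hg, e⟩
    exact ⟨c • g, fun x => Submodule.smul_mem _ c (hg x), by rw [smul_eq_mul, mul_smul, e, LinearMap.comp_smul]⟩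

/-- The case of a prime minimal over the ideal. -/
theorem exists_notMem_of_minimal (z : PrimeSpectrum R) (J : Ideal R) (hJz : J ≤ z.asIdeal)
    (hmin : ∀ y : PrimeSpectrum R, J ≤ y.asIdeal → y ≤ z → y = z) (b : ℕ) {N : Type u} [AddCommGroup N]
    [Module R N] [Module.Finite R N] (hb : ∀ h : ℕ, z.asIdeal.height = h → b + 1 ≠ L + h)
    (f : N →ₗ[R] D.E (b + 1)) (hf : Tors J f) (hdf : D.d (b + 1) ∘ₗ f = 0) :
    ∃ s ∈ coIdeal D J b f, s ∉ z.asIdeal := by
  let S := z.asIdeal.primeCompl
  let Rz := Localization.AtPrime z.asIdeal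
  obtain ⟨dd, hdd⟩ := ENat.ne_top_iff_exists.1
    (Ideal.height_lt_top_of_isPrime (I := z.asIdeal)).ne
  have hdim : ringKrullDim Rz = dd := by
    rw [IsLocalization.AtPrime.ringKrullDim_eq_height z.asIdeal Rz, ← hdd]; rfl
  haveI := Goren.Basic.isGorensteinLocalRing_of_isRegular Rz
  haveI := Annihilator.isCohenMacaulay (R := Rz)
  have hid : HasInjectiveDimensionLT (ModuleCat.of Rz Rz) (dd + 1) := by
    obtain ⟨n, hn⟩ := LocCoh.IsGorensteinLocalRing.exists_hasInjectiveDimensionLT (A := Rz)
    obtain ⟨d', hd', -, -, hlt⟩ := Goren.Basic.exists_dim hn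
    obtain rfl : d' = dd := by exact_mod_cast hd'.symm.trans hdim
    exact hlt
  set m := IsLocalRing.maximalIdeal Rz
  obtain ⟨σ, hσ⟩ := exists_torsion_section (D.localize z.asIdeal) hdim hid b (hb dd hdd.symm)
  have hJm : J.map (algebraMap R Rz) ≤ m := by
    rw [Ideal.map_le_iff_le_comap]
    exact hJz.trans (le_of_eq (IsLocalization.AtPrime.comap_maximalIdeal Rz z.asIdeal).symm)
  have hrad : m ≤ (J.map (algebraMap R Rz)).radical := by
    rw [Ideal.radical_eq_sInf]
    refine le_sInf fun P ⟨hP, hPp⟩ => ?_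
    have hle : P.comap (algebraMap R Rz) ≤ z.asIdeal :=
      (Ideal.comap_mono (IsLocalRing.le_maximalIdeal hPp.ne_top)).trans
        (le_of_eq (IsLocalization.AtPrime.comap_maximalIdeal Rz z.asIdeal))
    have := hmin ⟨P.comap (algebraMap R Rz), inferInstance⟩ (Ideal.map_le_iff_le_comap.1 hP) hle
    calc m = (m.comap (algebraMap R Rz)).map (algebraMap R Rz) :=
          (IsLocalization.map_comap S Rz m).symm
      _ = (P.comap (algebraMap R Rz)).map (algebraMap R Rz) :=
          congrArg (Ideal.map (algebraMap R Rz)) ((IsLocalization.AtPrime.comap_maximalIdeal Rz z.asIdeal).trans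
            (congrArg PrimeSpectrum.asIdeal this).symm)
      _ ≤ P := Ideal.map_comap_le
  obtain ⟨k, hk⟩ := Ideal.exists_pow_le_of_le_radical_of_fg hrad (IsNoetherian.noetherian m)
  let mk : ∀ j, D.E j →ₗ[R] LocalizedModule S (D.E j) := fun j => LocalizedModule.mkLinearMap S (D.E j)
  have hmapd : ∀ j (x : D.E j), (D.localize z.asIdeal).d j (mk j x) = mk (j + 1) (D.d j x) := fun j x =>
    LocalizedModule.map_mk S (D.d j) x 1
  have hF : ∀ x, mk (b + 1) (f x) ∈ Tc m (D.localize z.asIdeal).E (D.localize z.asIdeal).d (b + 1) := by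
    intro x
    obtain ⟨n, hn⟩ := hf x
    refine ⟨⟨k * n, fun c hc => ?_⟩, ?_⟩
    · have hc' : c ∈ (J ^ n).map (algebraMap R Rz) := by
        rw [Ideal.map_pow]; exact Ideal.pow_right_mono hk n (by rwa [← pow_mul])
      refine (show (J ^ n).map (algebraMap R Rz) ≤
        LinearMap.ker (LinearMap.toSpanSingleton Rz _ (mk (b + 1) (f x))) from ?_) hc'
      rw [Ideal.map_le_iff_le_comap]
      intro a ha
      show algebraMap R Rz a • mk (b + 1) (f x) = 0
      rw [algebraMap_smul, ← map_smul, hn a ha, map_zero]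
    · show (D.localize z.asIdeal).d (b + 1) (mk (b + 1) (f x)) = 0
      refine (hmapd (b + 1) (f x)).trans ?_
      rw [show D.d (b + 1) (f x) = 0 from LinearMap.congr_fun hdf x]
      exact map_zero _
  let G : N →ₗ[R] LocalizedModule S (D.E b) :=
    { toFun := fun x => σ ⟨mk (b + 1) (f x), hF x⟩
      map_add' := fun x y => by
        refine Eq.trans (congrArg σ (Subtype.ext ?_)) (map_add σ ⟨_, hF x⟩ ⟨_, hF y⟩)
        exact (congrArg (mk (b + 1)) (map_add f x y)).trans (map_add _ _ _)
      map_smul' := fun r x => by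
        refine Eq.trans (congrArg σ (Subtype.ext ?_))
          ((map_smul σ (algebraMap R Rz r) ⟨_, hF x⟩).trans
            (algebraMap_smul (M := LocalizedModule S (D.E b)) Rz r _))
        exact (congrArg (mk (b + 1)) (map_smul f r x)).trans
          ((map_smul _ _ _).trans (algebraMap_smul (M := LocalizedModule S (D.E (b + 1))) Rz r _).symm) }
  haveI := Module.finitePresentation_of_finite R N
  obtain ⟨h, s, hs⟩ := Module.FinitePresentation.exists_lift_of_isLocalizedModule S (mk b) G
  -- torsion values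
  have hGt : ∀ x, G x ∈ DRing.torsionSub J (LocalizedModule S (D.E b)) := fun x => by
    obtain ⟨n, hn⟩ := (hσ ⟨_, hF x⟩).1
    refine ⟨n, fun a ha => ?_⟩
    refine (algebraMap_smul Rz a (G x)).symm.trans ?_
    exact hn _ (Ideal.pow_right_mono hJm n (by rw [← Ideal.map_pow]; exact Ideal.mem_map_of_mem _ ha))
  obtain ⟨n, hn⟩ := LocalCoh.exists_pow_smul_eq_zero J G hGt
  obtain ⟨gs, hgs⟩ : (J ^ n).FG := IsNoetherian.noetherian _
  have hta : ∀ a : R, a ∈ gs → ∃ t ∈ S, t • (a • h) = 0 := fun a ha => by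
    refine exists_kill S (a • h) fun x => ?_
    show mk b (a • h x) = 0
    rw [map_smul, show mk b (h x) = s.1 • G x from LinearMap.congr_fun hs x, smul_comm,
      hn a (hgs ▸ Submodule.subset_span ha) x, smul_zero]
  choose! t htS ht using hta
  let T := ∏ a ∈ gs, t a
  have hTh : ∀ x, T • h x ∈ DRing.torsionSub J (D.E b) := fun x => ⟨n, fun c hc => by
    classical
    rw [← hgs] at hc
    induction hc using Submodule.span_induction with
    | mem a ha =>
      rw [show T = (∏ a ∈ gs.erase a, t a) * t a from (Finset.prod_erase_mul gs t ha).symm, mul_smul,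
        smul_comm a, smul_comm a, show t a • a • h x = 0 from LinearMap.congr_fun (ht a ha) x, smul_zero]
    | zero => rw [zero_smul]
    | add a c _ _ h₁ h₂ => rw [add_smul, h₁, h₂, add_zero]
    | smul r a _ h₁ => rw [smul_eq_mul, mul_smul, h₁, smul_zero]⟩
  obtain ⟨u, hu, hu0⟩ := exists_kill S (D.d b ∘ₗ h - (s : R) • f) fun x => by
    show mk (b + 1) (D.d b (h x) - (s : R) • f x) = 0
    rw [map_sub, map_smul, ← hmapd, show mk b (h x) = s.1 • G x from LinearMap.congr_fun hs x]
    refine sub_eq_zero.2 ?_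
    exact ((LocalizedModule.map S (D.d b)).map_smul_of_tower s.1 (G x)).trans
      (congrArg (fun w : LocalizedModule S (D.E (b + 1)) => s.1 • w) (hσ ⟨_, hF x⟩).2)
  refine ⟨u * T * s, ⟨(u * T) • h, fun x => ?_, LinearMap.ext fun x => ?_⟩,
    S.mul_mem (S.mul_mem hu (S.prod_mem fun a ha => htS a ha)) s.2⟩
  · show (u * T) • h x ∈ _
    rw [mul_smul]
    exact Submodule.smul_mem _ u (hTh x)
  · show (u * T * s.1) • f x = D.d b ((u * T) • h x)
    have h0 : u • (D.d b (h x) - s.1 • f x) = 0 := LinearMap.congr_fun hu0 x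
    rw [smul_sub, sub_eq_zero] at h0
    rw [map_smul, mul_comm u T, mul_smul T u (D.d b (h x)), h0, smul_smul, smul_smul, mul_assoc]

/-- Cocycles with torsion values are coboundaries near every prime when no prime of the critical height
occurs. -/
theorem exists_notMem : ∀ (n : ℕ) (z : PrimeSpectrum R), z.asIdeal.height < n → ∀ (J : Ideal R) (b : ℕ)
    (N : Type u) [AddCommGroup N] [Module R N] [Module.Finite R N],
    (∀ y : PrimeSpectrum R, J ≤ y.asIdeal → y ∈ Module.support R N → ∀ h : ℕ, y.asIdeal.height = h →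
      b + 1 ≠ L + h) →
    ∀ (f : N →ₗ[R] D.E (b + 1)), Tors J f → D.d (b + 1) ∘ₗ f = 0 →
      ∃ s ∈ coIdeal D J b f, s ∉ z.asIdeal := by
  intro n
  induction n with
  | zero => exact fun z hz => absurd hz (by simp)
  | succ n ih =>
    intro z hz J
    induction J using WellFoundedGT.induction with
    | _ J ihJ => ?_
    intro b N _ _ _ hcond f hf hdf
    classical
    by_cases hJz : J ≤ z.asIdeal
    swap
    · obtain ⟨a, haJ, haz⟩ := SetLike.not_le_iff_exists.1 hJz
      obtain ⟨k, hk⟩ := LocalCoh.exists_pow_smul_eq_zero J f hf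
      refine ⟨a ^ k, ⟨0, fun x => zero_mem _, LinearMap.ext fun x => ?_⟩, fun h => haz (z.2.mem_of_pow_mem k h)⟩
      show a ^ k • f x = D.d b 0
      rw [hk _ (Ideal.pow_mem_pow haJ k) x, map_zero]
    by_cases hN : z ∈ Module.support R N
    swap
    · rw [Module.support_eq_zeroLocus] at hN
      obtain ⟨a, haN, haz⟩ := Set.not_subset.1 hN
      refine ⟨a, ⟨0, fun x => zero_mem _, LinearMap.ext fun x => ?_⟩, haz⟩
      show a • f x = D.d b 0
      rw [← map_smul, Module.mem_annihilator.1 haN x, map_zero, map_zero]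
    by_cases hmin : ∀ y : PrimeSpectrum R, J ≤ y.asIdeal → y ≤ z → y = z
    · exact exists_notMem_of_minimal D z J hJz hmin b (hcond z hJz hN) f hf hdf
    push Not at hmin
    obtain ⟨y, hJy, hyz, hne⟩ := hmin
    obtain ⟨a, haz, hay⟩ := SetLike.exists_of_lt (show y.asIdeal < z.asIdeal from lt_of_le_of_ne hyz
      fun h => hne (PrimeSpectrum.ext h))
    have hJ' : J < J ⊔ Ideal.span {a} := lt_of_le_of_ne le_sup_left fun h =>
      hay (hJy (h.ge (Ideal.mem_sup_right (Ideal.mem_span_singleton_self a))))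
    -- after inverting `a` the cocycle is a coboundary
    obtain ⟨s, hsz, k, hsk⟩ : ∃ s ∉ z.asIdeal, ∃ k : ℕ, s * a ^ k ∈ coIdeal D J b f := by
      by_contra hc
      push Not at hc
      let M₀ : Submonoid R := z.asIdeal.primeCompl ⊔ Submonoid.powers a
      have hdisj : Disjoint (coIdeal D J b f : Set R) (M₀ : Set R) := by
        rw [Set.disjoint_right]
        intro c hc1 hc2
        obtain ⟨s, hs, _, ⟨k, rfl⟩, rfl⟩ := Submonoid.mem_sup.1 hc1
        exact hc s hs k hc2
      obtain ⟨P, hP, hle, hPd⟩ := Ideal.exists_le_prime_disjoint _ _ hdisj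
      have hPz : P ≤ z.asIdeal := fun c hcP => by
        by_contra hcz
        exact Set.disjoint_left.1 hPd hcP (Submonoid.mem_sup_left hcz)
      have haP : a ∉ P := fun haP => Set.disjoint_left.1 hPd haP
        (Submonoid.mem_sup_right (Submonoid.mem_powers a))
      have hlt : P < z.asIdeal := lt_of_le_of_ne hPz fun h => haP (h ▸ haz)
      have hPn : P.height < n :=
        (Ideal.height_strict_mono_of_isPrime hlt).trans_le (ENat.lt_natCast_add_one_iff.1 (by exact_mod_cast hz))
      obtain ⟨s, hs, hsP⟩ := ih ⟨P, hP⟩ hPn J b N hcond f hf hdf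
      exact hsP (hle hs)
    obtain ⟨g, hg, hge⟩ := hsk
    obtain ⟨r, hr, hm⟩ := exists_split a (DRing.torsionSub J (D.E b))
      (haveI := D.inj b; LocalCoh.injective_torsionSub J (D.E b))
    obtain ⟨m, hm⟩ := hm k
    let g' : N →ₗ[R] DRing.torsionSub J (D.E b) := g.codRestrict _ hg
    let h : N →ₗ[R] D.E b := (DRing.torsionSub J (D.E b)).subtype ∘ₗ m ∘ₗ g'
    let f' : N →ₗ[R] D.E (b + 1) := s • f - D.d b ∘ₗ h
    have hf'J : Tors J f' := fun x => Submodule.sub_mem _ (Submodule.smul_mem _ _ (hf x))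
      (DRing.map_mem_torsionSub J (D.d b) (m (g' x)).2)
    have hdf' : D.d (b + 1) ∘ₗ f' = 0 := by
      rw [LinearMap.comp_sub, LinearMap.comp_smul, hdf, smul_zero, ← LinearMap.comp_assoc, D.d_d,
        LinearMap.zero_comp, sub_zero]
    have hf' : Tors (J ⊔ Ideal.span {a}) f' := fun x => by
      obtain ⟨j, hj⟩ := hf'J x
      obtain ⟨l, hl⟩ := hr (g' x)
      have e1 : a ^ k • f' x = D.d b ((r (g' x) : DRing.torsionSub J (D.E b)) : D.E b) := by
        show a ^ k • (s • f x - D.d b (m (g' x) : D.E b)) = _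
        have e2 : (s * a ^ k) • f x = D.d b (g x) := LinearMap.congr_fun hge x
        rw [smul_sub, smul_smul, mul_comm, e2, ← map_smul, ← map_sub]
        congr 1
        have e3 := congrArg Subtype.val (hm (g' x))
        rw [Submodule.coe_sub, Submodule.coe_smul] at e3
        rw [← e3]
        exact sub_sub_cancel _ _
      have e4 : a ^ (l + k) • f' x = 0 := by
        rw [pow_add, mul_smul, e1, ← map_smul,
          show a ^ l • ((r (g' x) : DRing.torsionSub J (D.E b)) : D.E b) = 0 from
            congrArg Subtype.val (hl _ (Ideal.pow_mem_pow (Ideal.mem_span_singleton_self a) l)), map_zero]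
      refine ⟨j + (l + k), fun c hc => ?_⟩
      have hle := Ideal.sup_pow_add_le_pow_sup_pow (I := J) (J := Ideal.span {a}) (n := j) (m := l + k) hc
      obtain ⟨c1, h1, c2, h2, rfl⟩ := Submodule.mem_sup.1 hle
      rw [Ideal.span_singleton_pow, Ideal.mem_span_singleton'] at h2
      obtain ⟨c3, rfl⟩ := h2
      rw [add_smul, hj c1 h1, mul_smul, e4, smul_zero, add_zero]
    obtain ⟨s', ⟨g'', hg'', he''⟩, hs'z⟩ := ihJ _ hJ' b N
      (fun y hy hyN => hcond y (le_sup_left.trans hy) hyN) f' hf' hdf'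
    refine ⟨s' * s, ⟨g'' + s' • h, fun x => Submodule.add_mem _ ?_ (Submodule.smul_mem _ _ (m (g' x)).2), ?_⟩,
      fun hmem => (z.2.mem_or_mem hmem).elim hs'z hsz⟩
    · obtain ⟨j, hj⟩ := hg'' x
      exact ⟨j, fun c hc => hj c (Ideal.pow_right_mono le_sup_left j hc)⟩
    · rw [LinearMap.comp_add, ← he'', LinearMap.comp_smul, mul_smul, ← smul_add, sub_add_cancel]

/-- Cocycles with torsion values are coboundaries when no prime of the critical height occurs. -/
theorem exists_coboundary (J : Ideal R) (b : ℕ) (N : Type u) [AddCommGroup N] [Module R N] [Module.Finite R N]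
    (hcond : ∀ y : PrimeSpectrum R, J ≤ y.asIdeal → y ∈ Module.support R N → ∀ h : ℕ,
      y.asIdeal.height = h → b + 1 ≠ L + h)
    (f : N →ₗ[R] D.E (b + 1)) (hf : Tors J f) (hdf : D.d (b + 1) ∘ₗ f = 0) :
    ∃ g : N →ₗ[R] D.E b, Tors J g ∧ f = D.d b ∘ₗ g := by
  by_cases htop : coIdeal D J b f = ⊤
  · obtain ⟨g, hg, hge⟩ : (1 : R) ∈ coIdeal D J b f := htop ▸ trivial
    exact ⟨g, hg, (one_smul R f).symm.trans hge⟩
  · obtain ⟨P, hP, hle⟩ := Ideal.exists_le_maximal _ htop
    obtain ⟨n, hn⟩ := ENat.ne_top_iff_exists.1 (Ideal.height_lt_top_of_isPrime (I := P)).ne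
    obtain ⟨s, hs, hsP⟩ := exists_notMem D (n + 1) ⟨P, hP.isPrime⟩
      (show P.height < ((n + 1 : ℕ) : ℕ∞) by rw [← hn]; exact_mod_cast n.lt_succ_self) J b N hcond f hf hdf
    exact absurd (hle hs) hsP

end Groth.Agent.Lib.LCFin.TotalCx
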